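import Cfsg.Agent.Lib.Fus.M23U.Triality.Data
import Cfsg.Agent.Lib.Fus.M23U.TypeOf.Checks
import Cfsg.Agent.Lib.Spor.Cos.OutTriple

/-! Facts decided on the tables of the 3240 transpositions. -/

set_option autoImplicit false
set_option maxRecDepth 100000
set_option maxHeartbeats 4000000

open Cfsg.Agent.Spor.Cos Cfsg.Agent.Spor.Cos.Triple

namespace Cfsg.Agent.Fus.M23U.Triality

open Cfsg.Agent.Spor.Cos.Fi23 (actA)

/-- The points deciding the identity. -/
def detL : List ℕ := [0, 1, 2, 3, 4, 5, 6, 8, 9]

/-- The generators' words: nine in the first block, one outside, one more perpendicular to the seventh. -/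
def gw (k : ℕ) : List ℕ := (((List.range 9).map fun i => [i + 1]) ++ [tW, exW]).getD k []

/-- The place of a generator. -/
def gi (k : ℕ) : ℕ := giL.getD k 0

/-- What a generator does to the blocks. -/
def bp (k b : ℕ) : ℕ := bif Nat.beq k 9 then 2 - b else (if b = 0 then 0 else 3 - b)

/-- The image of a place under a generator. -/
noncomputable def img (k j : ℕ) : ℕ := invT.at (actA.go (gw k) (posT.at j))

/-- A list of steps reaches everything from what is known. -/
noncomputable def chkTree (bound : ℕ) (f : ℕ → ℕ → ℕ) (l : List ℕ) : ℕ → ℕ → Bool :=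
  List.rec (motive := fun _ => ℕ → ℕ → Bool) (fun full seen => Nat.beq seen full)
    (fun e _ r full seen => Nat.blt (e / 16777216) bound && Nat.beq ((seen >>> (e / 4096 % 4096)) % 2) 1 &&
      Nat.beq (f (e / 16777216) (e / 4096 % 4096)) (e % 4096) && r full (seen ||| 2 ^ (e % 4096))) l

theorem pos_ok : ∀ j < 3240, (Nat.blt (posT.at j) 31671 && Nat.beq (invT.at (posT.at j)) j) = true := by
  refine of_blocks (size := 810) (b := 4) (by decide) (by decide) fun j hj => ?_
  interval_cases j <;> decide +kernel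

theorem img_ok : ∀ j < 3240, ((List.range 10).all fun k =>
    Nat.beq (posT.at (img k j)) (actA.go (gw k) (posT.at j)) && Nat.blt (img k j) 3240 &&
      Nat.beq (img k j / 1080) (bp k (j / 1080))) = true := by
  refine of_blocks (size := 324) (b := 10) (by decide) (by decide) fun j hj => ?_
  interval_cases j <;> decide +kernel

theorem gw_lt : ∀ k < 11, ∀ s ∈ gw k, s < 10 := by decide +kernel

theorem gen_ok : ∀ k < 11, (sameW actA detL (gw k)
    (pathL.getD k [] ++ M23U.TypeOf.tzWord ++ (pathL.getD k []).reverse) &&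
    (pathL.getD k []).all (fun s => Nat.blt s 10) &&
    Nat.beq (actA.go (pathL.getD k []) 0) (posT.at (gi k)) && Nat.blt (gi k) 3240) = true := by decide +kernel

theorem gi_ok : ∀ k < 11, (Nat.blt (gi k) 1080 || Nat.beq k 9) = true := by decide +kernel

theorem gi_six : gi 6 = 0 ∧ gi 9 = 1080 := by decide +kernel

theorem treeK_ok : chkTree 9 img treeK (2 ^ 1080 - 1) 1 = true := by decide +kernel

theorem treeH_ok : chkTree 10 img treeH (2 ^ 3240 - 1) 1 = true := by decide +kernel

theorem sev_ok : ((List.range 351).all fun j => (List.range 8).all fun k =>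
    Nat.beq (posT.at (img (sevL.getD k 0) (j + 1))) (actA.go (gw (sevL.getD k 0)) (posT.at (j + 1))) &&
      Nat.blt 0 (img (sevL.getD k 0) (j + 1)) && Nat.blt (img (sevL.getD k 0) (j + 1)) 352 &&
      Nat.beq (img 6 (j + 1)) (j + 1)) = true := by decide +kernel

theorem sevL_ok : ((List.range 8).all fun k => Nat.blt (sevL.getD k 0) 11 && Nat.blt 0 (gi (sevL.getD k 0)) &&
    Nat.blt (gi (sevL.getD k 0)) 352) = true := by decide +kernel

theorem treeS_ok : chkTree 8 (fun k => img (sevL.getD k 0)) treeS (2 ^ 352 - 2)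
    (2 ^ gi (sevL.getD 0 0)) = true := by decide +kernel

theorem move_ok : ∀ j < 1080, ((List.range 8).any fun k =>
    !(Nat.beq (actA.go (gw (sevL.getD k 0)) (posT.at (1080 + j))) (actA.go (gw (sevL.getD 0 0)) (posT.at (1080 + j))))) =
      true := by
  refine of_blocks (size := 540) (b := 2) (by decide) (by decide) fun j hj => ?_
  interval_cases j <;> decide +kernel

theorem even_ok : ∀ k < 9, (sameW actA detL (gw 9 ++ gw 6 ++ gw k ++ gw 9) (evenW.getD k []) &&
    Nat.beq ((evenW.getD k []).length % 2) 0 && (evenW.getD k []).all (fun s => Nat.blt 0 s && Nat.blt s 10)) =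
      true := by
  decide +kernel

theorem braid_ok : sameW actA detL (gw 6 ++ gw 9 ++ gw 6) (gw 9 ++ gw 6 ++ gw 9) = true := by decide +kernel

theorem det_in : (detL.all fun p => Nat.blt (invT.at p) 1080 && Nat.beq (posT.at (invT.at p)) p) = true := by
  decide +kernel

/-- A digit of a label. -/
def dig (c i : ℕ) : ℕ := c / 3 ^ i % 3

/-- The label with given digits. -/
def enc (f : ℕ → ℕ) : ℕ :=
  f 0 + 3 * f 1 + 9 * f 2 + 27 * f 3 + 81 * f 4 + 243 * f 5 + 729 * f 6 + 2187 * f 7

/-- The norm of a label. -/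
def nrm (c : ℕ) : ℕ :=
  (dig c 0 * dig c 0 + dig c 1 * dig c 1 + dig c 2 * dig c 2 + dig c 3 * dig c 3 + dig c 4 * dig c 4 +
    dig c 5 * dig c 5 + dig c 6 * dig c 6 + dig c 7 * dig c 7) % 3

/-- The product of two labels. -/
def dotc (u v : ℕ) : ℕ :=
  (dig u 0 * dig v 0 + dig u 1 * dig v 1 + dig u 2 * dig v 2 + dig u 3 * dig v 3 + dig u 4 * dig v 4 +
    dig u 5 * dig v 5 + dig u 6 * dig v 6 + dig u 7 * dig v 7) % 3

/-- The opposite label. -/
def negc (c : ℕ) : ℕ := enc fun i => (2 * dig c i) % 3

/-- The image of a label under the reflection of another. -/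
def reflc (u v : ℕ) : ℕ := enc fun i => (dig v i + dotc u v * dig u i) % 3

/-- The label of a place. -/
noncomputable def code (j : ℕ) : ℕ := codeT.at j

theorem label_ok : ∀ j < 1080, (Nat.blt (code j) 6561 && Nat.beq (nrm (code j)) 1 &&
    Nat.beq (ixT.at (code j)) j && Nat.beq (ixT.at (negc (code j))) j &&
    (!(Nat.blt 0 j && Nat.blt j 352) || Nat.blt (code j) 2187)) = true := by
  refine of_blocks (size := 540) (b := 2) (by decide) (by decide) fun j hj => ?_
  interval_cases j <;> decide +kernel

theorem all_ok : ∀ c < 6561, (!(Nat.beq (nrm c) 1) || (Nat.blt (ixT.at c) 1080 &&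
    (Nat.beq (code (ixT.at c)) c || Nat.beq (code (ixT.at c)) (negc c)) &&
    (!(Nat.blt c 2187) || (Nat.blt 0 (ixT.at c) && Nat.blt (ixT.at c) 352)))) = true := by
  refine of_blocks (size := 2187) (b := 3) (by decide) (by decide) fun j hj => ?_
  interval_cases j <;> decide +kernel

theorem refl_ok : ∀ j < 1080, ((List.range 11).all fun k => Nat.beq k 9 ||
    (Nat.beq k 10 && !(Nat.blt 0 j && Nat.blt j 352)) ||
    (Nat.beq (reflc (code (gi k)) (code j)) (code (img k j)) ||
      Nat.beq (reflc (code (gi k)) (code j)) (negc (code (img k j))))) = true := by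
  refine of_blocks (size := 270) (b := 4) (by decide) (by decide) fun j hj => ?_
  interval_cases j <;> decide +kernel

end Cfsg.Agent.Fus.M23U.Triality
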