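import Cfsg.Agent.Lib.Fus.ThreeA.Refl
import Cfsg.Agent.Lib.Fus.M22U.TypeOf.Table
import Cfsg.Agent.Lib.Classical.OrthModels
import Cfsg.Agent.S0293
import Cfsg.Agent.S0296

/-! The eight-dimensional projective reflection group over the field of three elements. -/

set_option autoImplicit false
set_option linter.style.haveILetI false

namespace Cfsg.Agent.Fus.M23U.Triality

open Matrix Cfsg Cfsg.Agent.Classical
open Cfsg.Agent.Fus.M22U.TypeOf (sqForm sq_nondeg sq_gram)

theorem card_pomega : Nat.card (POmega (ZMod 3) (quadFormPlus 4 (ZMod 3))) = 4952179814400 := by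
  have hc := Cfsg.Agent.S0293.result (F := ZMod 3) (ZMod.card 3) 4 le_rfl
  norm_num [Finset.prod_range_succ] at hc
  omega

/-- The projective group of the reflections of norm one. -/
abbrev P8 : Type := ↥(reflectionSubgroup (⇑(sqForm 8)) 1) ⧸ Subgroup.center ↥(reflectionSubgroup (⇑(sqForm 8)) 1)

/-- Its simple subgroup of index at most two. -/
theorem exists_omega : ∃ E : Subgroup P8, E.Normal ∧ E.index ≤ 2 ∧
    Nonempty (↥E ≃* POmega (ZMod 3) (quadFormPlus 4 (ZMod 3))) := by
  classical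
  have h2 : (2 : ZMod 3) ≠ 0 := by decide
  have hQ : (QuadraticMap.polarBilin (sqForm 8)).Nondegenerate := sq_nondeg 8
  obtain ⟨L, hL⟩ := (isometric_iff_disc h2 hQ (nondegenerate_qfPlus 4) (Pi.basisFun (ZMod 3) (Fin 8))
    (Pi.basisFun (ZMod 3) (Fin 4 ⊕ Fin 4)) (by simp)).2 (by
      rw [ThreeA.Refl.gramDet_eq, sq_gram, gramDet_qfPlus]
      exact ⟨1, by decide⟩)
  obtain ⟨φ⟩ := OrthAut.nonempty_isoData (Q := sqForm 8) (Q' := qfPlus 4 (ZMod 3)) hL
  have hc : (1 : ZMod 3) ≠ 0 := one_ne_zero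
  set R := reflectionSubgroup (⇑(sqForm 8)) 1
  have hidxR : R.index = 2 := Spor.ReflThree.reflection_index (by norm_num) hQ hc
  haveI : R.Normal := Subgroup.normal_of_index_eq_two hidxR
  set Ω := Omega (ZMod 3) ⇑(sqForm 8)
  haveI : Ω.Normal := inferInstanceAs (commutator _).Normal
  have hΩR : Ω ≤ R := by
    haveI : IsCyclic (isometryGroup (ZMod 3) ⇑(sqForm 8) ⧸ R) := isCyclic_of_prime_card (p := 2)
      (show Nat.card _ = 2 from hidxR)
    exact Subgroup.Normal.quotient_commutative_iff_commutator_le.mp IsCyclic.isMulCommutative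
  have hQp : (QuadraticMap.polarBilin (qfPlus 4 (ZMod 3))).Nondegenerate := nondegenerate_qfPlus 4
  have hmap : Ω.map φ.og.toMonoidHom = Omega (ZMod 3) ⇑(qfPlus 4 (ZMod 3)) := by
    show (commutator _).map _ = commutator _
    rw [commutator_def, Subgroup.map_commutator, Subgroup.map_top_of_surjective _ φ.og.surjective, commutator_def]
  have hiΩ : Ω.index = 4 := by
    have hi := Subgroup.index_map_of_bijective (f := φ.og.toMonoidHom) φ.og.bijective Ω
    rw [hmap] at hi
    rw [← hi]
    refine OrthAut.index_omega_odd hQp ?_ h2 (by simp)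
    exact OrthAut.genQ_odd hQp h2
  have hrel : (Ω.subgroupOf R).index = 2 := by
    have h := Subgroup.relIndex_mul_index hΩR
    rw [hiΩ, hidxR] at h
    show Ω.relIndex R = 2
    omega
  let ρ : ↥Ω →* P8 := (QuotientGroup.mk' _).comp (Subgroup.inclusion hΩR)
  have hρ : ρ.range = (Ω.subgroupOf R).map (QuotientGroup.mk' _) := by
    rw [MonoidHom.range_eq_map, ← Subgroup.map_map]
    congr 1
    rw [← MonoidHom.range_eq_map, Subgroup.inclusion_range]
  refine ⟨ρ.range, hρ ▸ Subgroup.Normal.map inferInstance _ (QuotientGroup.mk'_surjective _), ?_, ?_⟩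
  · rw [hρ, ← hrel]
    exact Nat.le_of_dvd (by omega) (Subgroup.index_map_dvd _ (QuotientGroup.mk'_surjective _))
  let e2 : ↥Ω ≃* ↥(Omega (ZMod 3) ⇑(qfPlus 4 (ZMod 3))) :=
    (Ω.equivMapOfInjective φ.og.toMonoidHom φ.og.injective).trans (MulEquiv.subgroupCongr hmap)
  have hker : ρ.ker = Subgroup.center ↥Ω := by
    ext g
    rw [MonoidHom.mem_ker]
    constructor
    · intro hg
      have hz : Subgroup.inclusion hΩR g ∈ Subgroup.center ↥R := (QuotientGroup.eq_one_iff _).mp hg
      exact Subgroup.mem_center_iff.2 fun h =>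
        Subgroup.inclusion_injective hΩR (by
          rw [map_mul, map_mul]; exact Subgroup.mem_center_iff.1 hz _)
    · intro hg
      have hz : e2 g ∈ Subgroup.center ↥(Omega (ZMod 3) ⇑(qfPlus 4 (ZMod 3))) :=
        Subgroup.mem_center_iff.2 fun h => e2.symm.injective (by
          rw [map_mul, map_mul, e2.symm_apply_apply]; exact Subgroup.mem_center_iff.1 hg _)
      refine (QuotientGroup.eq_one_iff _).mpr (Subgroup.mem_center_iff.2 fun r => Subtype.ext ?_)
      apply φ.og.injective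
      rw [Subgroup.coe_mul, Subgroup.coe_mul, map_mul, map_mul]
      refine Subtype.ext (Units.ext ?_)
      have hs := OrthAut.center_omega_scalar hQp (OrthAut.tri_qfPlus (by norm_num)) (by simp) hz
      show ((φ.og (r : ↥(isometryGroup (ZMod 3) ⇑(sqForm 8))) : GL (Fin 4 ⊕ Fin 4) (ZMod 3)) :
          Matrix (Fin 4 ⊕ Fin 4) (Fin 4 ⊕ Fin 4) (ZMod 3)) * OrthAut.omVal (e2 g) =
        OrthAut.omVal (e2 g) * ((φ.og (r : ↥(isometryGroup (ZMod 3) ⇑(sqForm 8))) : GL (Fin 4 ⊕ Fin 4) (ZMod 3)) :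
          Matrix (Fin 4 ⊕ Fin 4) (Fin 4 ⊕ Fin 4) (ZMod 3))
      rcases hs with e | e <;> rw [e] <;> simp
  rw [show quadFormPlus 4 (ZMod 3) = ⇑(qfPlus 4 (ZMod 3)) from (coe_qfPlus 4).symm]
  refine ⟨(QuotientGroup.quotientKerEquivRange ρ).symm.trans ((QuotientGroup.quotientMulEquivOfEq hker).trans
    (QuotientGroup.congr (Subgroup.center _) (Subgroup.center _) e2 ?_))⟩
  rw [Subgroup.map_equiv_eq_comap_symm]
  ext x
  rw [Subgroup.mem_comap, Subgroup.mem_center_iff, Subgroup.mem_center_iff]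
  constructor
  · intro h y
    have := congrArg e2 (h (e2.symm y))
    simpa using this
  · intro h y
    exact e2.injective (by simpa using h (e2 y))

end Cfsg.Agent.Fus.M23U.Triality
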