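import Cfsg.Agent.Lib.Fus.M23U.Triality.Labels
import Cfsg.Agent.Lib.Fus.M23U.Triality.Eight
import Cfsg.Agent.Lib.Fus.ThreeA.M24

/-! The structure of the group of three blocks and of the centraliser of a transposition in it. -/

set_option autoImplicit false
set_option linter.style.haveILetI false
set_option maxRecDepth 100000
set_option maxHeartbeats 2000000

open Cfsg.Agent.Spor.Cos
open Cfsg.Agent.Spor.Cos.Fi23 (actA piA)
open Cfsg.Agent.Fus.M23U.TypeOf (dp dp_equivariant dp_injective commute_dp)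

namespace Cfsg.Agent.Fus.M23U.Triality

open Cfsg

attribute [local instance] Cfsg.Agent.Spor.Cos.Fi23.finite

theorem nb_normal : (NB.subgroupOf KB).Normal :=
  (Subgroup.normal_subgroupOf_iff_le_normalizer NB_le).2 (KB_le.trans norm_NB)

theorem nb_index : (NB.subgroupOf KB).index = 2 := by
  haveI := nb_normal
  rw [Subgroup.index_eq_two_iff']
  refine ⟨⟨ge 6, ge_KB (by norm_num)⟩, fun b => ?_⟩
  simp only [Subgroup.mem_subgroupOf, Subgroup.coe_mul]
  rcases KB_cases b.2 with h | h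
  · refine Or.inr ⟨h, fun h' => six_not_NB ?_⟩
    simpa [mul_assoc] using mul_mem h' (inv_mem h)
  · refine Or.inl ⟨h, fun h' => six_not_NB ?_⟩
    simpa [mul_assoc] using mul_mem h (inv_mem h')

theorem nb_spec : Nonempty (↥NB ≃* POmega (ZMod 3) (quadFormPlus 4 (ZMod 3))) ∧
    Nat.card ↥KB = 2 * 4952179814400 := by
  classical
  obtain ⟨e⟩ : Nonempty (↥KB ≃* P8) := nonempty_KB
  haveI := nb_normal
  set N := (NB.subgroupOf KB).map e.toMonoidHom
  haveI : N.Normal := Subgroup.Normal.map inferInstance _ e.surjective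
  have hN : N.index = 2 := (Subgroup.index_map_of_bijective e.bijective _).trans nb_index
  obtain ⟨E, hE, hEi, ⟨f⟩⟩ := exists_omega
  haveI := hE
  haveI : IsSimpleGroup (POmega (ZMod 3) (quadFormPlus 4 (ZMod 3))) := Cfsg.Agent.S0296.result 4 le_rfl
  haveI : Finite ↥E := Finite.of_equiv _ f.symm.toEquiv
  haveI : Nontrivial ↥E := f.toEquiv.nontrivial
  haveI : IsSimpleGroup ↥E := IsSimpleGroup.isSimpleGroup_of_surjective f.symm.toMonoidHom f.symm.surjective
  have hcE : Nat.card ↥E = 4952179814400 := (Nat.card_congr f.toEquiv).trans card_pomega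
  have hEN : E ≤ N := by
    rcases ((inferInstance : N.Normal).subgroupOf E).eq_bot_or_eq_top with h | h
    · exfalso
      have hle : Nat.card ↥E ≤ N.index := by
        haveI : N.FiniteIndex := ⟨by rw [hN]; norm_num⟩
        refine Nat.card_le_card_of_injective ((QuotientGroup.mk' N).comp E.subtype)
          ((injective_iff_map_eq_one _).2 fun x hx => ?_)
        have : x ∈ N.subgroupOf E := (QuotientGroup.eq_one_iff (x : P8)).1 hx
        rwa [h, Subgroup.mem_bot] at this
      omega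
    · exact Subgroup.subgroupOf_eq_top.1 h
  have hr := Subgroup.relIndex_mul_index hEN
  have hE0 : E.index ≠ 0 := by
    haveI : Finite ↥KB := inferInstance
    haveI : Finite P8 := Finite.of_equiv _ e.toEquiv
    exact Subgroup.index_ne_zero_of_finite
  have heq : N = E := by
    refine le_antisymm (Subgroup.relIndex_eq_one.1 ?_) hEN
    rw [hN] at hr
    omega
  refine ⟨⟨((Subgroup.subgroupOfEquivOfLe NB_le).symm.trans ((NB.subgroupOf KB).equivMapOfInjective e.toMonoidHom
    e.injective)).trans ((MulEquiv.subgroupCongr heq).trans f)⟩, ?_⟩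
  rw [Nat.card_congr e.toEquiv, ← E.card_mul_index, hcE, ← heq, hN]

theorem nb_simple : IsSimpleGroup ↥NB := by
  obtain ⟨e⟩ := nb_spec.1
  haveI : IsSimpleGroup (POmega (ZMod 3) (quadFormPlus 4 (ZMod 3))) := Cfsg.Agent.S0296.result 4 le_rfl
  haveI : Nontrivial ↥NB := e.toEquiv.nontrivial
  exact IsSimpleGroup.isSimpleGroup_of_surjective e.symm.toMonoidHom e.symm.surjective

theorem nb_nonabelian : ¬ IsMulCommutative ↥NB := by
  intro h
  haveI := nb_simple
  haveI := h
  obtain ⟨e⟩ := nb_spec.1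
  letI : CommGroup ↥NB := { (inferInstance : Group ↥NB) with mul_comm := fun a b => IsMulCommutative.is_comm.comm a b }
  haveI : IsSimpleGroup ↥NB := nb_simple
  have hp := IsSimpleGroup.prime_card (α := ↥NB)
  rw [Nat.card_congr e.toEquiv, card_pomega] at hp
  norm_num at hp

theorem centralizer_bot {z : Spor.Fi23} (hz : z ∈ HB) (hc : ∀ n ∈ NB, Commute z n) : z = 1 := by
  refine centralizer_NB (fun z hz hc => ?_) hz hc
  haveI := nb_simple
  rcases (inferInstance : (Subgroup.center ↥NB).Normal).eq_bot_or_eq_top with h | h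
  · have : (⟨z, hz⟩ : ↥NB) ∈ Subgroup.center ↥NB :=
      Subgroup.mem_center_iff.2 fun n => Subtype.ext (hc n n.2).eq.symm
    rw [h, Subgroup.mem_bot] at this
    exact congrArg Subtype.val this
  · exact absurd ⟨⟨fun a b => (Subgroup.mem_center_iff.1 (h ▸ Subgroup.mem_top b) a)⟩⟩ nb_nonabelian

theorem fitting_HB : generalizedFittingSubgroup ↥HB = NB.subgroupOf HB := by
  haveI : Finite ↥HB := inferInstance
  have hNH : NB ≤ HB := NB_le.trans KB_le
  haveI : (NB.subgroupOf HB).Normal := (Subgroup.normal_subgroupOf_iff_le_normalizer hNH).2 norm_NB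
  have e := Subgroup.subgroupOfEquivOfLe hNH
  haveI := nb_simple
  haveI : Nontrivial ↥(NB.subgroupOf HB) := e.toEquiv.nontrivial
  refine ThreeA.gfitting_eq_of_simple _
    (IsSimpleGroup.isSimpleGroup_of_surjective e.symm.toMonoidHom e.symm.surjective) (fun h => nb_nonabelian ?_) ?_
  · exact ⟨⟨fun a b => e.symm.injective (by rw [map_mul, map_mul]; exact h.is_comm.comm _ _)⟩⟩
  · refine (Subgroup.eq_bot_iff_forall _).2 fun z hz => Subtype.ext (centralizer_bot z.2 fun n hn => ?_)
    exact (congrArg Subtype.val (Subgroup.mem_centralizer_iff.1 hz ⟨n, hNH hn⟩ hn)).symm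

theorem exists_NB_quot : ∃ _ : (generalizedFittingSubgroup ↥HB).Normal,
    Nonempty (↥HB ⧸ generalizedFittingSubgroup ↥HB ≃* Equiv.Perm (Fin 3)) := by
  rw [fitting_HB, ← rhoB_ker]
  exact ⟨inferInstance, ⟨QuotientGroup.quotientKerEquivOfSurjective rhoB rhoB_surj⟩⟩

/-- The centraliser of the first member in the group of three blocks. -/
noncomputable def CB : Subgroup Spor.Fi23 := HB ⊓ Subgroup.centralizer {ge 6}

theorem CB_le : CB ≤ KB := fun _ hx =>
  fix_KB hx.1 (d_zero ▸ Subgroup.mem_centralizer_singleton_iff.1 hx.2)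

theorem KB_move {x : Spor.Fi23} (hx : x ∈ KB) {j : ℕ} (hj : j < 1080) : ∃ i < 1080, piA x (pt j) = pt i := by
  have hσ : rhoB ⟨x, KB_le hx⟩ 0 = 0 := by
    rcases KB_cases hx with h | h
    · rw [rhoB_NB (h := ⟨x, KB_le hx⟩) h, Equiv.Perm.one_apply]
    · have e : (⟨x, KB_le hx⟩ : ↥HB) = ⟨ge 6, ge_HB (by norm_num)⟩ *
          ⟨ge 6 * x, KB_le (mul_mem (ge_KB (by norm_num)) hx)⟩ :=
        Subtype.ext (by rw [Subgroup.coe_mul, ← mul_assoc, ge_sq (by norm_num), one_mul])
      rw [e, map_mul, rhoB_NB (h := ⟨ge 6 * x, _⟩) h, mul_one, rhoB_six]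
      decide
  obtain ⟨i, hi, e⟩ := rhoB_spec ⟨x, KB_le hx⟩ 0 j (Nat.div_eq_of_lt hj)
  rw [hσ] at hi
  exact ⟨i, by simpa [Nat.div_eq_zero_iff] using hi, e⟩

theorem card_CB : Nat.card ↥CB = 2 * 4585351680 := by
  haveI : Finite ↥KB := inferInstance
  letI : MulAction ↥KB (Fin actA.N) := MulAction.compHom _ (piA.comp KB.subtype)
  have hsm : ∀ (x : ↥KB) p, x • p = piA (x : Spor.Fi23) p := fun _ _ => rfl
  have horb : MulAction.orbit ↥KB (pt 0) = Set.range fun j : Fin 1080 => pt j := by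
    ext p
    constructor
    · rintro ⟨x, rfl⟩
      obtain ⟨i, hi, e⟩ := KB_move x.2 (show 0 < 1080 by norm_num)
      exact ⟨⟨i, hi⟩, ((hsm x _).trans e).symm⟩
    · rintro ⟨j, rfl⟩
      obtain ⟨y, hy, e⟩ := (d_KB j.2).2
      refine ⟨⟨y, hy⟩, (hsm _ _).trans (dp_injective ?_)⟩
      rw [dp_equivariant]
      exact e
  have hst : MulAction.stabilizer ↥KB (pt 0) = CB.subgroupOf KB := by
    ext x
    rw [MulAction.mem_stabilizer_iff, hsm, Subgroup.mem_subgroupOf, CB, Subgroup.mem_inf,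
      Subgroup.mem_centralizer_singleton_iff, ← d_zero]
    exact ⟨fun h => ⟨KB_le x.2, (commute_dp.2 h).eq⟩, fun h => commute_dp.1 h.2⟩
  have h1 := MulAction.index_stabilizer ↥KB (pt 0)
  rw [horb, Set.ncard_range_of_injective (fun i j e => Fin.ext (pt_inj (by omega) (by omega) e)), Nat.card_fin,
    hst] at h1
  have h2 := (CB.subgroupOf KB).index_mul_card
  rw [h1, nb_spec.2, Nat.card_congr (Subgroup.subgroupOfEquivOfLe CB_le).toEquiv] at h2
  omega

/-- The even part of the centraliser. -/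
noncomputable def CN : Subgroup Spor.Fi23 := NB ⊓ Subgroup.centralizer {ge 6}

theorem CN_le : CN ≤ CB := fun _ hx => ⟨KB_le (NB_le hx.1), hx.2⟩

theorem six_CB : ge 6 ∈ CB := ⟨ge_HB (by norm_num), Subgroup.mem_centralizer_singleton_iff.2 rfl⟩

theorem nonempty_prod : Nonempty (Multiplicative (ZMod 2) × ↥CN ≃* ↥CB) := by
  classical
  have hc : ∀ n : ↥CN, ge 6 * n = n * ge 6 := fun n => (Subgroup.mem_centralizer_singleton_iff.1 n.2.2).symm
  let s : Multiplicative (ZMod 2) → Spor.Fi23 := fun z => if z = 1 then 1 else ge 6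
  have hs : ∀ a b, s (a * b) = s a * s b := by
    have two : ∀ a : Multiplicative (ZMod 2), a = 1 ∨ a = Multiplicative.ofAdd 1 := by decide
    intro a b
    rcases two a with rfl | rfl <;> rcases two b with rfl | rfl
    · simp [s]
    · simp [s]
    · simp [s]
    · rw [show Multiplicative.ofAdd (1 : ZMod 2) * Multiplicative.ofAdd 1 = 1 by decide]
      simp [s, ge_sq (show 6 < 11 by norm_num)]
  have hscb : ∀ z, s z ∈ CB := fun z => by
    simp only [s]
    split
    exacts [one_mem _, six_CB]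
  let φ : Multiplicative (ZMod 2) × ↥CN →* ↥CB :=
    MonoidHom.mk' (fun p => ⟨s p.1 * p.2, mul_mem (hscb _) (CN_le p.2.2)⟩) fun p q => by
      refine Subtype.ext ?_
      show s (p.1 * q.1) * ((p.2 : Spor.Fi23) * q.2) = s p.1 * p.2 * (s q.1 * q.2)
      rw [hs]
      simp only [s]
      split_ifs
      · simp
      · simp [mul_assoc, ← mul_assoc (p.2 : Spor.Fi23) (ge 6), ← hc p.2]
      · simp [mul_assoc]
      · simp [mul_assoc, ← mul_assoc (p.2 : Spor.Fi23) (ge 6), ← hc p.2]
  refine ⟨MulEquiv.ofBijective φ ⟨(injective_iff_map_eq_one φ).2 ?_, ?_⟩⟩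
  · rintro ⟨z, n⟩ h
    have h' : s z * (n : Spor.Fi23) = 1 := congrArg Subtype.val h
    by_cases hz : z = 1
    · subst hz
      simp only [s, if_true, one_mul] at h'
      exact Prod.ext rfl (Subtype.ext h')
    · simp only [s, if_neg hz] at h'
      refine absurd ?_ six_not_NB
      rw [eq_inv_of_mul_eq_one_left h']
      exact inv_mem n.2.1
  · rintro ⟨x, hx⟩
    rcases KB_cases (CB_le hx) with h | h
    · exact ⟨(1, ⟨x, h, hx.2⟩), Subtype.ext (by simp [φ, s])⟩
    · refine ⟨(Multiplicative.ofAdd 1, ⟨ge 6 * x, h, mul_mem (Subgroup.mem_centralizer_singleton_iff.2 rfl) hx.2⟩),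
        Subtype.ext ?_⟩
      show s _ * (ge 6 * x) = x
      rw [show s (Multiplicative.ofAdd 1) = ge 6 from if_neg (by decide), ← mul_assoc, ge_sq (by norm_num), one_mul]

theorem AB_le : AB ≤ CB := by
  refine (Subgroup.closure_le _).2 ?_
  rintro _ ⟨j, rfl⟩
  have hj : (j : ℕ) + 1 < 1080 := by omega
  exact ⟨KB_le (d_KB hj).1,
    Subgroup.mem_centralizer_singleton_iff.2 (perp_spec (by omega) (by omega)).symm.eq⟩

theorem nonempty_CN : Nonempty (↥CN ≃* POmega (ZMod 3) (quadFormOdd 3 (ZMod 3))) := by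
  obtain ⟨P⟩ := nonempty_prod
  obtain ⟨q⟩ := nonempty_AB
  obtain ⟨hlow, hiso⟩ := ThreeA.Refl.seven (M22U.TypeOf.sq_nondeg 7) (c := (1 : ZMod 3)) one_ne_zero
  rw [← Nat.card_congr q.toEquiv] at hlow hiso
  have hCN : Nat.card ↥CN = 4585351680 := by
    have := Nat.card_congr P.toEquiv
    rw [Nat.card_prod, card_CB, Nat.card_eq_fintype_card (α := Multiplicative (ZMod 2)),
      show Fintype.card (Multiplicative (ZMod 2)) = 2 from rfl] at this
    omega
  haveI : Finite ↥CN := inferInstance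
  haveI : Finite ↥AB := inferInstance
  let f : ↥AB →* ↥CN := (MonoidHom.snd _ _).comp (P.symm.toMonoidHom.comp (Subgroup.inclusion AB_le))
  have hker : f.ker ≤ Subgroup.center ↥AB := by
    intro a ha
    refine Subgroup.mem_center_iff.2 fun b => Subgroup.inclusion_injective AB_le (P.symm.injective ?_)
    have h2 : (P.symm (Subgroup.inclusion AB_le a)).2 = 1 := ha
    rw [map_mul, map_mul, map_mul, map_mul]
    refine Prod.ext ?_ ?_
    · rw [Prod.fst_mul, Prod.fst_mul, mul_comm]
    · rw [Prod.snd_mul, Prod.snd_mul, h2, mul_one, one_mul]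
  have hrange : Nat.card ↥f.range ≤ 4585351680 := hCN ▸ Subgroup.card_le_card_group _
  have hidx : f.ker.index = Nat.card ↥f.range := Subgroup.index_ker f
  have hdvd := Subgroup.index_dvd_of_le hker
  have hle : (Subgroup.center ↥AB).index ≤ Nat.card ↥f.range := hidx ▸ Nat.le_of_dvd
    (Nat.pos_of_ne_zero Subgroup.index_ne_zero_of_finite) hdvd
  have hlow' : 4585351680 ≤ (Subgroup.center ↥AB).index := hlow
  have hz : f.ker = Subgroup.center ↥AB := by
    have h := Subgroup.relIndex_mul_index hker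
    refine le_antisymm hker (Subgroup.relIndex_eq_one.1 ?_)
    have : f.ker.index = (Subgroup.center ↥AB).index := by omega
    rw [this] at h
    exact Nat.eq_of_mul_eq_mul_right (by omega) (h.trans (one_mul _).symm)
  have htop : f.range = ⊤ := Subgroup.eq_top_of_card_eq _ (by omega)
  obtain ⟨w⟩ := hiso (show Nat.card (↥AB ⧸ Subgroup.center ↥AB) ≤ 4585351680 from le_trans hle hrange)
  exact ⟨((((QuotientGroup.quotientMulEquivOfEq hz.symm).trans (QuotientGroup.quotientKerEquivRange f)).trans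
    ((MulEquiv.subgroupCongr htop).trans Subgroup.topEquiv)).symm.trans q).trans w⟩

theorem centralizer_member {j : ℕ} (hj : j < 3240) : Nonempty (↥(HB ⊓ Subgroup.centralizer {d j}) ≃*
    Multiplicative (ZMod 2) × POmega (ZMod 3) (quadFormOdd 3 (ZMod 3))) := by
  obtain ⟨y, hy, e⟩ := (d_HB hj).2
  obtain ⟨P⟩ := nonempty_prod
  obtain ⟨Q⟩ := nonempty_CN
  have hmap : CB.map (MulAut.conj y).toMonoidHom = HB ⊓ Subgroup.centralizer {d j} := by
    have hH : HB.map (MulAut.conj y).toMonoidHom = HB := by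
      refine Subgroup.ext fun x => ⟨?_, fun hx => ⟨y⁻¹ * x * y, mul_mem (mul_mem (inv_mem hy) hx) hy, ?_⟩⟩
      · rintro ⟨x, hx, rfl⟩
        exact mul_mem (mul_mem hy hx) (inv_mem hy)
      · show y * (y⁻¹ * x * y) * y⁻¹ = x
        group
    rw [CB, Subgroup.map_inf _ _ _ (MulAut.conj y).injective, hH]
    congr 1
    ext x
    rw [Subgroup.mem_map_equiv, Subgroup.mem_centralizer_singleton_iff, Subgroup.mem_centralizer_singleton_iff,
      ← e, d_zero, MulAut.conj_symm_apply]
    constructor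
    · intro h
      calc x * (y * ge 6 * y⁻¹) = y * ((y⁻¹ * x * y) * ge 6) * y⁻¹ := by group
        _ = y * (ge 6 * (y⁻¹ * x * y)) * y⁻¹ := by rw [h]
        _ = y * ge 6 * y⁻¹ * x := by group
    · intro h
      calc y⁻¹ * x * y * ge 6 = y⁻¹ * (x * (y * ge 6 * y⁻¹)) * y := by group
        _ = y⁻¹ * (y * ge 6 * y⁻¹ * x) * y := by rw [h]
        _ = ge 6 * (y⁻¹ * x * y) := by group
  exact ⟨((MulEquiv.subgroupCongr hmap.symm).trans
    ((CB.equivMapOfInjective _ (MulAut.conj y).injective).symm.trans P.symm)).trans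
    (MulEquiv.prodCongr (MulEquiv.refl _) Q)⟩

/-- Only the 3240 in the group braid or commute with all of the first block. -/
theorem member {x : Spor.Fi23} (hx : x ∈ HB) (h1 : x ≠ 1)
    (hb : ∀ j < 1080, ¬ Commute x (d j) → x * x = 1 ∧ x * d j * x = d j * x * d j) :
    ∃ j < 3240, x = d j := by
  by_cases h : ∀ j < 1080, Commute x (d j)
  · exact absurd (centralizer_block h) h1
  push Not at h
  obtain ⟨j, hj, hc⟩ := h
  obtain ⟨hxx, hbr⟩ := hb j hj hc
  obtain ⟨i, hi, ei⟩ := rhoB_spec ⟨x, hx⟩ 0 j (Nat.div_eq_of_lt hj)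
  have hdH := KB_le (d_KB hj).1
  obtain ⟨b, hb'⟩ : ∃ b : Fin 3, i / 1080 = b := ⟨_, hi⟩
  obtain ⟨k, hk, ek⟩ := rhoB_spec ⟨d j, hdH⟩ b i hb'
  refine ⟨k, lt_of_block hk, ?_⟩
  have e1 : x * d j * x = d i := by
    show _ = dp (pt i)
    rw [← ei, dp_equivariant, inv_eq_of_mul_eq_one_right hxx]
    rfl
  have hdd : d j * d j = 1 := by
    obtain ⟨y, -, e⟩ := (d_KB hj).2
    rw [← e, d_zero]
    simp only [mul_assoc, inv_mul_cancel_left]
    rw [← mul_assoc (ge 6), ge_sq (by norm_num), one_mul, mul_inv_cancel]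
  show x = dp (pt k)
  rw [← ek, dp_equivariant]
  show x = d j * d i * (d j)⁻¹
  rw [← e1, hbr, inv_eq_of_mul_eq_one_right hdd]
  simp only [mul_assoc, hdd, mul_one]
  rw [← mul_assoc, hdd, one_mul]

end Cfsg.Agent.Fus.M23U.Triality
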