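import Cfsg.Agent.Lib.Fus.M23U.Triality.Checks
import Cfsg.Agent.Lib.Fus.M23U.TypeOf.Points

/-! The subgroup of Fi23 generated by 3240 transpositions in three blocks permuted as the symmetric group of
degree three. -/

set_option autoImplicit false
set_option linter.style.haveILetI false
set_option maxRecDepth 100000
set_option maxHeartbeats 2000000

open Cfsg.Agent.Spor.Cos Cfsg.Agent.Spor.Cos.Triple
open Cfsg.Agent.Spor.Cos.Fi23 (g actA piA homA det baseA g_sq)
open Cfsg.Agent.Fus.M23U.TypeOf (dp dp_eq dp_equivariant commute_dp dp_injective tzWord)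

namespace Cfsg.Agent.Fus.M23U.Triality

theorem N_pos : 0 < actA.N := by decide

/-- A point. -/
noncomputable def pt (j : ℕ) : Fin actA.N := ⟨posT.at j % actA.N, Nat.mod_lt _ N_pos⟩

/-- A transposition of the set. -/
noncomputable def d (j : ℕ) : Spor.Fi23 := dp (pt j)

/-- A generator. -/
noncomputable def ge (k : ℕ) : Spor.Fi23 := ev g (gw k)

theorem pt_val {j : ℕ} (hj : j < 3240) : (pt j : ℕ) = posT.at j := by
  have h := pos_ok j hj
  simp only [Bool.and_eq_true, Nat.blt_eq] at h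
  exact Nat.mod_eq_of_lt h.1

theorem inv_pt {j : ℕ} (hj : j < 3240) : invT.at (pt j : ℕ) = j := by
  have h := pos_ok j hj
  simp only [Bool.and_eq_true] at h
  rw [pt_val hj]
  exact Nat.eq_of_beq_eq_true h.2

theorem pt_inj {i j : ℕ} (hi : i < 3240) (hj : j < 3240) (h : pt i = pt j) : i = j := by
  rw [← inv_pt hi, h, inv_pt hj]

theorem img_spec {k j : ℕ} (hk : k < 10) (hj : j < 3240) :
    piA (ge k) (pt j) = pt (img k j) ∧ img k j < 3240 ∧ img k j / 1080 = bp k (j / 1080) := by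
  have h := List.all_eq_true.1 (img_ok j hj) k (List.mem_range.2 hk)
  simp only [Bool.and_eq_true, Nat.blt_eq] at h
  refine ⟨Fin.ext ?_, h.1.2, Nat.eq_of_beq_eq_true h.2⟩
  rw [ge, homA.apply_ev _ (gw_lt k (by omega)), pt_val hj, pt_val h.1.2]
  exact (Nat.eq_of_beq_eq_true h.1.1).symm

theorem conj_d {k j : ℕ} (hk : k < 10) (hj : j < 3240) : ge k * d j * (ge k)⁻¹ = d (img k j) := by
  rw [d, ← dp_equivariant, (img_spec hk hj).1]
  rfl

theorem gi_lt {k : ℕ} (hk : k < 11) : gi k < 3240 ∧ (k ≠ 9 → gi k < 1080) := by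
  have h := gen_ok k hk
  simp only [Bool.and_eq_true, Nat.blt_eq] at h
  refine ⟨h.2, fun h9 => ?_⟩
  have h' := gi_ok k hk
  simp only [Bool.or_eq_true, Nat.blt_eq] at h'
  exact h'.resolve_right fun e => h9 (Nat.eq_of_beq_eq_true e)

theorem ge_eq {k : ℕ} (hk : k < 11) : ge k = d (gi k) := by
  have h := gen_ok k hk
  simp only [Bool.and_eq_true, List.all_eq_true, Nat.blt_eq] at h
  obtain ⟨⟨⟨hw, hl⟩, hgo⟩, hlt⟩ := h
  set w := pathL.getD k []
  have hp : piA (ev g w) baseA = pt (gi k) :=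
    Fin.ext ((homA.apply_ev w hl baseA).trans ((Nat.eq_of_beq_eq_true hgo).trans (pt_val hlt).symm))
  rw [ge, eq_of_sameW homA det hw, ev_append, ev_append, ev_reverse (fun t _ => g_sq t) w hl, d, dp_eq hp,
    M23U.TypeOf.tz_word]

theorem ge_sq {k : ℕ} (hk : k < 11) : ge k * ge k = 1 := by
  rw [ge_eq hk, d, dp]
  simp only [mul_assoc, inv_mul_cancel_left]
  rw [← mul_assoc Fi23.tz, Fi23.tz_sq, one_mul, mul_inv_cancel]

theorem ge_inv {k : ℕ} (hk : k < 11) : (ge k)⁻¹ = ge k := inv_eq_of_mul_eq_one_right (ge_sq hk)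

theorem ge_letter {a : ℕ} (ha : a < 9) : ge a = g (a + 1) := by
  have : gw a = [a + 1] := by interval_cases a <;> decide
  rw [ge, this]
  simp [ev]

theorem tree_spec {bound : ℕ} {f : ℕ → ℕ → ℕ} {full : ℕ} (P : ℕ → Prop)
    (hstep : ∀ k < bound, ∀ j, P j → P (f k j)) : ∀ (l : List ℕ) (seen : ℕ), chkTree bound f l full seen = true →
      (∀ i, seen.testBit i = true → P i) → ∀ i, full.testBit i = true → P i
  | [], seen, h, hs => fun i hi => hs i (by rwa [Nat.eq_of_beq_eq_true (show Nat.beq seen full = true from h)])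
  | e :: l, seen, h, hs => by
    replace h : (Nat.blt (e / 16777216) bound && Nat.beq ((seen >>> (e / 4096 % 4096)) % 2) 1 &&
      Nat.beq (f (e / 16777216) (e / 4096 % 4096)) (e % 4096) &&
      chkTree bound f l full (seen ||| 2 ^ (e % 4096))) = true := h
    simp only [Bool.and_eq_true, Nat.blt_eq] at h
    obtain ⟨⟨⟨hk, hy⟩, hx⟩, hr⟩ := h
    refine tree_spec P hstep l _ hr fun i hi => ?_
    rw [Nat.testBit_or, Bool.or_eq_true, Nat.testBit_two_pow, decide_eq_true_eq] at hi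
    rcases hi with hi | rfl
    · exact hs i hi
    · rw [← Nat.eq_of_beq_eq_true hx]
      refine hstep _ hk _ (hs _ ?_)
      rw [Nat.testBit_eq_decide_div_mod_eq, decide_eq_true_eq, ← Nat.shiftRight_eq_div_pow]
      exact Nat.eq_of_beq_eq_true hy

/-- The group of the first block. -/
noncomputable def KB : Subgroup Spor.Fi23 := Subgroup.closure {x | ∃ k < 9, ge k = x}

/-- The group of the three blocks. -/
noncomputable def HB : Subgroup Spor.Fi23 := Subgroup.closure {x | ∃ k < 10, ge k = x}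

/-- The products of two generators of the first block. -/
noncomputable def NB : Subgroup Spor.Fi23 := Subgroup.closure {x | ∃ a < 9, ∃ b < 9, ge a * ge b = x}

theorem ge_KB {k : ℕ} (hk : k < 9) : ge k ∈ KB := Subgroup.subset_closure ⟨k, hk, rfl⟩

theorem ge_HB {k : ℕ} (hk : k < 10) : ge k ∈ HB := Subgroup.subset_closure ⟨k, hk, rfl⟩

theorem KB_le : KB ≤ HB := Subgroup.closure_mono fun _ ⟨k, hk, e⟩ => ⟨k, by omega, e⟩

theorem NB_le : NB ≤ KB := (Subgroup.closure_le _).2 fun _ ⟨_, ha, _, hb, e⟩ => e ▸ mul_mem (ge_KB ha) (ge_KB hb)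

theorem d_zero : d 0 = ge 6 := by rw [ge_eq (by norm_num), gi_six.1]

theorem d_KB {j : ℕ} (hj : j < 1080) : d j ∈ KB ∧ ∃ y ∈ KB, y * d 0 * y⁻¹ = d j := by
  have h := tree_spec (fun i => i < 1080 ∧ d i ∈ KB ∧ ∃ y ∈ KB, y * d 0 * y⁻¹ = d i) ?_ treeK 1 treeK_ok ?_ j
    (by rw [Nat.testBit_two_pow_sub_one, decide_eq_true_eq]; exact hj)
  · exact h.2
  · rintro k hk i ⟨hi, h1, y, hy, e⟩
    obtain ⟨-, -, hb⟩ := img_spec (k := k) (j := i) (by omega) (by omega)
    have hb' : bp k (i / 1080) = 0 := by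
      rw [Nat.div_eq_of_lt hi, bp, show Nat.beq k 9 = false from Bool.eq_false_iff.2 fun c => by
        have := Nat.eq_of_beq_eq_true c; omega]
      rfl
    rw [hb', Nat.div_eq_zero_iff] at hb
    refine ⟨hb.resolve_left (by norm_num), ?_, ge k * y, mul_mem (ge_KB hk) hy, ?_⟩
    · rw [← conj_d (by omega) (by omega)]
      exact mul_mem (mul_mem (ge_KB hk) h1) (inv_mem (ge_KB hk))
    · rw [← conj_d (by omega) (by omega), ← e]
      group
  · intro i hi
    rw [Nat.testBit_one_eq_true_iff_self_eq_zero] at hi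
    subst hi
    exact ⟨by norm_num, d_zero ▸ ge_KB (by norm_num), 1, one_mem _, by simp⟩

theorem d_HB {j : ℕ} (hj : j < 3240) : d j ∈ HB ∧ ∃ y ∈ HB, y * d 0 * y⁻¹ = d j := by
  have h := tree_spec (fun i => i < 3240 ∧ d i ∈ HB ∧ ∃ y ∈ HB, y * d 0 * y⁻¹ = d i) ?_ treeH 1 treeH_ok ?_ j
    (by rw [Nat.testBit_two_pow_sub_one, decide_eq_true_eq]; exact hj)
  · exact h.2
  · rintro k hk i ⟨hi, h1, y, hy, e⟩
    refine ⟨(img_spec hk hi).2.1, ?_, ge k * y, mul_mem (ge_HB hk) hy, ?_⟩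
    · rw [← conj_d hk hi]
      exact mul_mem (mul_mem (ge_HB hk) h1) (inv_mem (ge_HB hk))
    · rw [← conj_d hk hi, ← e]
      group
  · intro i hi
    rw [Nat.testBit_one_eq_true_iff_self_eq_zero] at hi
    subst hi
    exact ⟨by norm_num, d_zero ▸ ge_HB (by norm_num), 1, one_mem _, by simp⟩

/-- Only one commutes with the whole first block. -/
theorem centralizer_block {z : Spor.Fi23} (h : ∀ j < 1080, Commute z (d j)) : z = 1 := by
  refine det z fun q hq => ?_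
  have hd := List.all_eq_true.1 det_in (q : ℕ) hq
  simp only [Bool.and_eq_true, Nat.blt_eq] at hd
  have e : pt (invT.at (q : ℕ)) = q := Fin.ext ((pt_val (by omega)).trans (Nat.eq_of_beq_eq_true hd.2))
  rw [← e]
  exact commute_dp.1 (h _ hd.1)

theorem d_ne {j : ℕ} : d j ≠ 1 := by
  intro h
  have all : ∀ p, dp p = 1 := fun p => by
    obtain ⟨y, rfl⟩ : ∃ y, piA y (pt j) = p := by
      obtain ⟨a, ha⟩ := Fi23.trA p
      obtain ⟨b, hb⟩ := Fi23.trA (pt j)
      exact ⟨a * b⁻¹, by rw [map_mul, map_inv, Equiv.Perm.mul_apply, ← hb, Equiv.Perm.inv_def, Equiv.symm_apply_apply, ha]⟩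
    rw [dp_equivariant, show dp (pt j) = 1 from h, mul_one, mul_inv_cancel]
  exact absurd (dp_injective ((all ⟨0, by decide⟩).trans (all ⟨1, by decide⟩).symm)) (by simp)

theorem even_mem : ∀ w : List ℕ, (∀ s ∈ w, 0 < s ∧ s < 10) →
    (w.length % 2 = 0 → ev g w ∈ NB) ∧ (w.length % 2 = 1 → ∀ a < 9, ge a * ev g w ∈ NB)
  | [], _ => ⟨fun _ => by simp [ev], fun h => absurd h (by simp)⟩
  | s :: w, hw => by
    obtain ⟨h0, h1⟩ := hw s List.mem_cons_self
    have es : g s = ge (s - 1) := by rw [ge_letter (by omega), Nat.sub_add_cancel h0]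
    obtain ⟨i0, i1⟩ := even_mem w fun t ht => hw t (List.mem_cons_of_mem _ ht)
    refine ⟨fun h => ?_, fun h a ha => ?_⟩
    · rw [ev, es]
      exact i1 (by simp only [List.length_cons] at h; omega) _ (by omega)
    · rw [ev, es, ← mul_assoc]
      exact mul_mem (Subgroup.subset_closure ⟨a, ha, s - 1, by omega, rfl⟩)
        (i0 (by simp only [List.length_cons] at h; omega))

theorem twist_mem {a : ℕ} (ha : a < 9) : ge 9 * ge 6 * ge a * ge 9 ∈ NB := by
  have h := even_ok a ha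
  simp only [Bool.and_eq_true, List.all_eq_true, Nat.blt_eq] at h
  obtain ⟨⟨h1, h2⟩, h3⟩ := h
  have := (even_mem _ h3).1 (Nat.eq_of_beq_eq_true h2)
  rwa [← eq_of_sameW homA det h1, ev_append, ev_append, ev_append] at this

theorem conj_NB {k : ℕ} (hk : k < 10) {x : Spor.Fi23} (hx : x ∈ NB) : ge k * x * (ge k)⁻¹ ∈ NB := by
  have hle : NB ≤ NB.comap (MulAut.conj (ge k)).toMonoidHom := by
    refine (Subgroup.closure_le _).2 ?_
    rintro _ ⟨a, ha, b, hb, rfl⟩
    show ge k * (ge a * ge b) * (ge k)⁻¹ ∈ NB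
    rw [ge_inv (by omega)]
    rcases Nat.lt_or_ge k 9 with h9 | h9
    · rw [show ge k * (ge a * ge b) * ge k = ge k * ge a * (ge b * ge k) by simp only [mul_assoc]]
      exact mul_mem (Subgroup.subset_closure ⟨k, h9, a, ha, rfl⟩) (Subgroup.subset_closure ⟨b, hb, k, h9, rfl⟩)
    · obtain rfl : k = 9 := by omega
      have s6 : ∀ x, ge 6 * (ge 6 * x) = x := fun x => by rw [← mul_assoc, ge_sq (by norm_num), one_mul]
      have s9 : ∀ x, ge 9 * (ge 9 * x) = x := fun x => by rw [← mul_assoc, ge_sq (by norm_num), one_mul]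
      rw [show ge 9 * (ge a * ge b) * ge 9 = (ge 9 * ge 6 * ge a * ge 9)⁻¹ * (ge 9 * ge 6 * ge b * ge 9) by
        simp only [mul_inv_rev, ge_inv (show a < 11 by omega), ge_inv (show 6 < 11 by norm_num),
          ge_inv (show 9 < 11 by norm_num), mul_assoc, s6, s9]]
      exact mul_mem (inv_mem (twist_mem ha)) (twist_mem hb)
  exact hle hx

theorem norm_NB : HB ≤ Subgroup.normalizer (NB : Set Spor.Fi23) := by
  refine (Subgroup.closure_le _).2 ?_
  rintro _ ⟨k, hk, rfl⟩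
  refine Subgroup.mem_normalizer_iff.2 fun x => ⟨conj_NB hk, fun h => ?_⟩
  have := conj_NB hk h
  rwa [ge_inv (show k < 11 by omega), ← mul_assoc, ← mul_assoc, ge_sq (by omega), one_mul, mul_assoc,
    ge_sq (by omega), mul_one] at this

/-- Representatives of the six cosets. -/
noncomputable def reps : List Spor.Fi23 := [1, ge 6, ge 9, ge 6 * ge 9, ge 9 * ge 6, ge 6 * ge 9 * ge 6]

theorem braid : ge 9 * (ge 6 * ge 9) = ge 6 * (ge 9 * ge 6) := by
  have := eq_of_sameW homA det braid_ok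
  simp only [ev_append, mul_assoc] at this
  exact this.symm

theorem reps_mul {k : ℕ} (hk : k = 6 ∨ k = 9) {r : Spor.Fi23} (hr : r ∈ reps) : ge k * r ∈ reps := by
  have s6 : ∀ x, ge 6 * (ge 6 * x) = x := fun x => by rw [← mul_assoc, ge_sq (by norm_num), one_mul]
  have s9 : ∀ x, ge 9 * (ge 9 * x) = x := fun x => by rw [← mul_assoc, ge_sq (by norm_num), one_mul]
  have q6 := ge_sq (show 6 < 11 by norm_num)
  have q9 := ge_sq (show 9 < 11 by norm_num)
  have e : ge 9 * (ge 6 * (ge 9 * ge 6)) = ge 6 * ge 9 := by rw [← braid, s9]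
  simp only [reps, List.mem_cons, List.not_mem_nil, or_false] at hr ⊢
  rcases hk with rfl | rfl <;> rcases hr with rfl | rfl | rfl | rfl | rfl | rfl <;>
    simp [mul_assoc, s6, s9, q6, q9, e, braid]

theorem reps_HB {r : Spor.Fi23} (hr : r ∈ reps) : r ∈ HB := by
  have h6 := ge_HB (show 6 < 10 by norm_num)
  have h9 := ge_HB (show 9 < 10 by norm_num)
  simp only [reps, List.mem_cons, List.not_mem_nil, or_false] at hr
  rcases hr with rfl | rfl | rfl | rfl | rfl | rfl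
  exacts [one_mem _, h6, h9, mul_mem h6 h9, mul_mem h9 h6, mul_mem (mul_mem h6 h9) h6]

theorem cosets {h : Spor.Fi23} (hh : h ∈ HB) : ∃ r ∈ reps, ∃ n ∈ NB, h = r * n := by
  induction hh using Subgroup.closure_induction_left with
  | one => exact ⟨1, by simp [reps], 1, one_mem _, by simp⟩
  | mul_left x hx y _ ih =>
    obtain ⟨k, hk, rfl⟩ := hx
    obtain ⟨r, hr, n, hn, rfl⟩ := ih
    rcases Nat.lt_or_ge k 9 with h9 | h9
    · refine ⟨ge 6 * r, reps_mul (Or.inl rfl) hr, r⁻¹ * (ge 6 * ge k) * r * n, mul_mem ?_ hn, ?_⟩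
      · exact (Subgroup.mem_normalizer_iff''.1 (norm_NB (reps_HB hr)) _).1
          (Subgroup.subset_closure ⟨6, by norm_num, k, h9, rfl⟩)
      · simp only [mul_assoc, mul_inv_cancel_left]
        rw [← mul_assoc (ge 6) (ge 6), ge_sq (by norm_num), one_mul]
    · obtain rfl : k = 9 := by omega
      exact ⟨ge 9 * r, reps_mul (Or.inr rfl) hr, n, hn, (mul_assoc _ _ _).symm⟩
  | inv_mul_cancel x hx y _ ih =>
    obtain ⟨k, hk, rfl⟩ := hx
    rw [ge_inv (show k < 11 by omega)]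
    obtain ⟨r, hr, n, hn, rfl⟩ := ih
    rcases Nat.lt_or_ge k 9 with h9 | h9
    · refine ⟨ge 6 * r, reps_mul (Or.inl rfl) hr, r⁻¹ * (ge 6 * ge k) * r * n, mul_mem ?_ hn, ?_⟩
      · exact (Subgroup.mem_normalizer_iff''.1 (norm_NB (reps_HB hr)) _).1
          (Subgroup.subset_closure ⟨6, by norm_num, k, h9, rfl⟩)
      · simp only [mul_assoc, mul_inv_cancel_left]
        rw [← mul_assoc (ge 6) (ge 6), ge_sq (by norm_num), one_mul]
    · obtain rfl : k = 9 := by omega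
      exact ⟨ge 9 * r, reps_mul (Or.inr rfl) hr, n, hn, (mul_assoc _ _ _).symm⟩

theorem KB_cases {h : Spor.Fi23} (hh : h ∈ KB) : h ∈ NB ∨ ge 6 * h ∈ NB := by
  have two : ∀ k < 9, ∀ y, (y ∈ NB ∨ ge 6 * y ∈ NB) → (ge k * y ∈ NB ∨ ge 6 * (ge k * y) ∈ NB) := by
    intro k hk y hy
    rcases hy with hy | hy
    · right
      rw [← mul_assoc]
      exact mul_mem (Subgroup.subset_closure ⟨6, by norm_num, k, hk, rfl⟩) hy
    · left
      have : ge k * y = ge k * ge 6 * (ge 6 * y) := by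
        rw [mul_assoc, ← mul_assoc (ge 6) (ge 6), ge_sq (by norm_num), one_mul]
      rw [this]
      exact mul_mem (Subgroup.subset_closure ⟨k, hk, 6, by norm_num, rfl⟩) hy
  induction hh using Subgroup.closure_induction_left with
  | one => exact Or.inl (one_mem _)
  | mul_left x hx y _ ih => obtain ⟨k, hk, rfl⟩ := hx; exact two k hk y ih
  | inv_mul_cancel x hx y _ ih =>
    obtain ⟨k, hk, rfl⟩ := hx
    rw [ge_inv (show k < 11 by omega)]
    exact two k hk y ih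

/-- The permutation of the blocks by a generator. -/
def bperm (k : ℕ) : Equiv.Perm (Fin 3) := bif Nat.beq k 9 then Equiv.swap 0 2 else Equiv.swap 1 2

theorem bperm_val (k : ℕ) (b : Fin 3) : (bperm k b : ℕ) = bp k b := by
  unfold bperm bp
  cases Nat.beq k 9 <;> revert b <;> decide

/-- What an element does to the blocks. -/
def Blk (h : Spor.Fi23) (σ : Equiv.Perm (Fin 3)) : Prop :=
  ∀ (b : Fin 3) (j : ℕ), j / 1080 = b → ∃ i, i / 1080 = (σ b : ℕ) ∧ piA h (pt j) = pt i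

theorem lt_of_block {b : Fin 3} {j : ℕ} (h : j / 1080 = b) : j < 3240 := by
  have := b.2
  omega

theorem blk_one : Blk 1 1 := fun b j hj => ⟨j, hj, by simp⟩

theorem blk_ge {k : ℕ} (hk : k < 10) : Blk (ge k) (bperm k) := fun b j hj => by
  obtain ⟨h1, -, h3⟩ := img_spec hk (lt_of_block hj)
  exact ⟨img k j, by rw [h3, hj, bperm_val], h1⟩

theorem blk_mul {x y : Spor.Fi23} {σ τ : Equiv.Perm (Fin 3)} (hx : Blk x σ) (hy : Blk y τ) :
    Blk (x * y) (σ * τ) := fun b j hj => by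
  obtain ⟨i, hi, e⟩ := hy b j hj
  obtain ⟨i', hi', e'⟩ := hx (τ b) i hi
  exact ⟨i', hi', by rw [map_mul, Equiv.Perm.mul_apply, e, e']⟩

theorem blk_unique {x : Spor.Fi23} {σ τ : Equiv.Perm (Fin 3)} (hx : Blk x σ) (hy : Blk x τ) : σ = τ :=
  Equiv.ext fun b => by
    have hj : (1080 * (b : ℕ)) / 1080 = b := Nat.mul_div_cancel_left _ (by norm_num)
    obtain ⟨i, hi, e⟩ := hx b _ hj
    obtain ⟨i', hi', e'⟩ := hy b _ hj
    have := pt_inj (lt_of_block hi) (lt_of_block hi') (e.symm.trans e')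
    exact Fin.ext (by rw [← hi, ← hi', this])

theorem blk_exists {h : Spor.Fi23} (hh : h ∈ HB) : ∃ σ, Blk h σ := by
  induction hh using Subgroup.closure_induction_left with
  | one => exact ⟨1, blk_one⟩
  | mul_left x hx y _ ih =>
    obtain ⟨k, hk, rfl⟩ := hx
    obtain ⟨τ, hτ⟩ := ih
    exact ⟨_, blk_mul (blk_ge hk) hτ⟩
  | inv_mul_cancel x hx y _ ih =>
    obtain ⟨k, hk, rfl⟩ := hx
    obtain ⟨τ, hτ⟩ := ih
    rw [ge_inv (show k < 11 by omega)]
    exact ⟨_, blk_mul (blk_ge hk) hτ⟩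

/-- The action on the blocks. -/
noncomputable def rhoB : ↥HB →* Equiv.Perm (Fin 3) :=
  MonoidHom.mk' (fun h => (blk_exists h.2).choose) fun x y =>
    blk_unique (blk_exists (x * y).2).choose_spec (blk_mul (blk_exists x.2).choose_spec (blk_exists y.2).choose_spec)

theorem rhoB_spec (h : ↥HB) : Blk (h : Spor.Fi23) (rhoB h) := (blk_exists h.2).choose_spec

theorem rhoB_ge {k : ℕ} (hk : k < 10) : rhoB ⟨ge k, ge_HB hk⟩ = bperm k :=
  blk_unique (rhoB_spec _) (blk_ge hk)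

theorem rhoB_NB {h : ↥HB} (hh : (h : Spor.Fi23) ∈ NB) : rhoB h = 1 := by
  have hle : NB ≤ rhoB.ker.map HB.subtype := by
    refine (Subgroup.closure_le _).2 ?_
    rintro _ ⟨a, ha, b, hb, rfl⟩
    refine ⟨⟨ge a, ge_HB (by omega)⟩ * ⟨ge b, ge_HB (by omega)⟩, ?_, rfl⟩
    rw [SetLike.mem_coe, MonoidHom.mem_ker, map_mul, rhoB_ge (by omega), rhoB_ge (by omega), bperm, bperm,
      show Nat.beq a 9 = false from Bool.eq_false_iff.2 fun c => by have := Nat.eq_of_beq_eq_true c; omega,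
      show Nat.beq b 9 = false from Bool.eq_false_iff.2 fun c => by have := Nat.eq_of_beq_eq_true c; omega]
    decide
  obtain ⟨x, hx, e⟩ := hle hh
  obtain rfl : x = h := Subtype.ext e
  exact hx

theorem rhoB_six : rhoB ⟨ge 6, ge_HB (by norm_num)⟩ = Equiv.swap 1 2 := rhoB_ge (by norm_num)

theorem rhoB_nine : rhoB ⟨ge 9, ge_HB (by norm_num)⟩ = Equiv.swap 0 2 := rhoB_ge (by norm_num)

theorem rhoB_surj : Function.Surjective rhoB := fun σ => by
  have key : ∀ σ : Equiv.Perm (Fin 3), σ = 1 ∨ σ = Equiv.swap 1 2 ∨ σ = Equiv.swap 0 2 ∨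
      σ = Equiv.swap 1 2 * Equiv.swap 0 2 ∨ σ = Equiv.swap 0 2 * Equiv.swap 1 2 ∨
      σ = Equiv.swap 1 2 * Equiv.swap 0 2 * Equiv.swap 1 2 := by decide
  have h6 := rhoB_six; have h9 := rhoB_nine
  rcases key σ with rfl | rfl | rfl | rfl | rfl | rfl
  exacts [⟨1, map_one _⟩, ⟨_, h6⟩, ⟨_, h9⟩, ⟨⟨_, ge_HB (show 6 < 10 by norm_num)⟩ * ⟨_, ge_HB (show 9 < 10 by norm_num)⟩, by rw [map_mul, h6, h9]⟩,
    ⟨⟨_, ge_HB (show 9 < 10 by norm_num)⟩ * ⟨_, ge_HB (show 6 < 10 by norm_num)⟩, by rw [map_mul, h9, h6]⟩,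
    ⟨⟨_, ge_HB (show 6 < 10 by norm_num)⟩ * ⟨_, ge_HB (show 9 < 10 by norm_num)⟩ *
      ⟨_, ge_HB (show 6 < 10 by norm_num)⟩, by rw [map_mul, map_mul, h6, h9]⟩]

theorem rhoB_ker : rhoB.ker = NB.subgroupOf HB := by
  refine le_antisymm (fun h hh => ?_) fun h hh => MonoidHom.mem_ker.2 (rhoB_NB hh)
  obtain ⟨r, hr, n, hn, e⟩ := cosets h.2
  have hn' : n ∈ HB := KB_le (NB_le hn)
  have eh : h = ⟨r, reps_HB hr⟩ * ⟨n, hn'⟩ := Subtype.ext e
  rw [MonoidHom.mem_ker, eh, map_mul, rhoB_NB (h := ⟨n, hn'⟩) hn, mul_one] at hh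
  suffices r = 1 by
    rw [Subgroup.mem_subgroupOf, e, this, one_mul]
    exact hn
  have h6 := rhoB_six; have h9 := rhoB_nine
  simp only [reps, List.mem_cons, List.not_mem_nil, or_false] at hr
  rcases hr with rfl | rfl | rfl | rfl | rfl | rfl
  · rfl
  · rw [h6] at hh; exact absurd hh (by decide)
  · rw [h9] at hh; exact absurd hh (by decide)
  · rw [show (⟨ge 6 * ge 9, reps_HB (by simp [reps])⟩ : ↥HB) = ⟨ge 6, ge_HB (by norm_num)⟩ *
      ⟨ge 9, ge_HB (by norm_num)⟩ from rfl, map_mul, h6, h9] at hh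
    exact absurd hh (by decide)
  · rw [show (⟨ge 9 * ge 6, reps_HB (by simp [reps])⟩ : ↥HB) = ⟨ge 9, ge_HB (by norm_num)⟩ *
      ⟨ge 6, ge_HB (by norm_num)⟩ from rfl, map_mul, h6, h9] at hh
    exact absurd hh (by decide)
  · rw [show (⟨ge 6 * ge 9 * ge 6, reps_HB (by simp [reps])⟩ : ↥HB) = ⟨ge 6, ge_HB (by norm_num)⟩ *
      ⟨ge 9, ge_HB (by norm_num)⟩ * ⟨ge 6, ge_HB (by norm_num)⟩ from rfl, map_mul, map_mul, h6, h9] at hh
    exact absurd hh (by decide)

theorem six_not_NB : ge 6 ∉ NB := fun h => by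
  have := rhoB_NB (h := ⟨ge 6, ge_HB (by norm_num)⟩) h
  rw [rhoB_six] at this
  exact absurd this (by decide)

theorem rhoB_zero {h : ↥HB} {j : ℕ} (hj : j < 3240) (e : piA (h : Spor.Fi23) (pt 0) = pt j) :
    ((rhoB h) 0 : ℕ) = j / 1080 := by
  obtain ⟨i, hi, e'⟩ := rhoB_spec h 0 0 rfl
  rw [pt_inj hj (lt_of_block hi) (e.symm.trans e'), hi]

/-- What fixes the first point lies in the group of the first block. -/
theorem fix_KB {h : Spor.Fi23} (hh : h ∈ HB) (hc : Commute h (d 0)) : h ∈ KB := by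
  obtain ⟨r, hr, n, hn, rfl⟩ := cosets hh
  have h0 : ((rhoB ⟨r * n, hh⟩) 0 : ℕ) = 0 := by
    rw [rhoB_zero (h := ⟨r * n, hh⟩) (j := 0) (by norm_num) (commute_dp.1 hc)]
  have hn' : n ∈ HB := KB_le (NB_le hn)
  rw [show (⟨r * n, hh⟩ : ↥HB) = ⟨r, reps_HB hr⟩ * ⟨n, hn'⟩ from rfl, map_mul,
    rhoB_NB (h := ⟨n, hn'⟩) hn, mul_one] at h0
  refine mul_mem ?_ (NB_le hn)
  have h6 := rhoB_six; have h9 := rhoB_nine
  simp only [reps, List.mem_cons, List.not_mem_nil, or_false] at hr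
  rcases hr with rfl | rfl | rfl | rfl | rfl | rfl
  · exact one_mem _
  · exact ge_KB (by norm_num)
  · rw [h9] at h0; exact absurd h0 (by decide)
  · rw [show (⟨ge 6 * ge 9, reps_HB (by simp [reps])⟩ : ↥HB) = ⟨ge 6, ge_HB (by norm_num)⟩ *
      ⟨ge 9, ge_HB (by norm_num)⟩ from rfl, map_mul, h6, h9] at h0
    exact absurd h0 (by decide)
  · rw [show (⟨ge 9 * ge 6, reps_HB (by simp [reps])⟩ : ↥HB) = ⟨ge 9, ge_HB (by norm_num)⟩ *
      ⟨ge 6, ge_HB (by norm_num)⟩ from rfl, map_mul, h6, h9] at h0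
    exact absurd h0 (by decide)
  · rw [show (⟨ge 6 * ge 9 * ge 6, reps_HB (by simp [reps])⟩ : ↥HB) = ⟨ge 6, ge_HB (by norm_num)⟩ *
      ⟨ge 9, ge_HB (by norm_num)⟩ * ⟨ge 6, ge_HB (by norm_num)⟩ from rfl, map_mul, map_mul, h6, h9] at h0
    exact absurd h0 (by decide)

theorem sev_lt {k : ℕ} (hk : k < 8) : sevL.getD k 0 < 11 ∧ 0 < gi (sevL.getD k 0) ∧ gi (sevL.getD k 0) < 352 := by
  have h := List.all_eq_true.1 sevL_ok k (List.mem_range.2 hk)
  simp only [Bool.and_eq_true, Nat.blt_eq] at h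
  exact ⟨h.1.1, h.1.2, h.2⟩

theorem perp_spec {j : ℕ} (h0 : 0 < j) (hj : j < 352) : Commute (ge 6) (d j) := by
  have h := List.all_eq_true.1 (List.all_eq_true.1 sev_ok (j - 1) (List.mem_range.2 (by omega))) 0
    (List.mem_range.2 (by norm_num))
  simp only [Bool.and_eq_true, Nat.sub_add_cancel h0] at h
  have := conj_d (k := 6) (j := j) (by norm_num) (by omega)
  rw [Nat.eq_of_beq_eq_true h.2] at this
  exact mul_inv_eq_iff_eq_mul.1 this

theorem sev_KB {k : ℕ} (hk : k < 8) :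
    ge (sevL.getD k 0) ∈ KB ∧ Commute (ge (sevL.getD k 0)) (ge 6) := by
  obtain ⟨h1, h2, h3⟩ := sev_lt hk
  rw [ge_eq h1]
  exact ⟨(d_KB (by omega)).1, (perp_spec h2 h3).symm⟩

/-- Nothing outside commutes with all products in the first block, once nothing inside does. -/
theorem centralizer_NB (hZ : ∀ z ∈ NB, (∀ n ∈ NB, Commute z n) → z = 1) {z : Spor.Fi23} (hz : z ∈ HB)
    (hc : ∀ n ∈ NB, Commute z n) : z = 1 := by
  have conjC : ∀ {z}, (∀ n ∈ NB, Commute z n) → ∀ k < 10, ∀ n ∈ NB, Commute (ge k * z * (ge k)⁻¹) n := by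
    intro z hc k hk n hn
    have h1 := hc _ (conj_NB hk hn)
    rw [ge_inv (show k < 11 by omega)] at h1 ⊢
    have h2 := (commute_conj_iff (ge k) z (ge k * n * ge k)).2 h1
    rw [ge_inv (show k < 11 by omega)] at h2
    rwa [show ge k * (ge k * n * ge k) * ge k = n by
      rw [← mul_assoc, ← mul_assoc, ge_sq (by omega), one_mul, mul_assoc, ge_sq (by omega), mul_one]] at h2
  have no_one : ∀ z, ∀ hz : z ∈ HB, (∀ n ∈ NB, Commute z n) → rhoB ⟨z, hz⟩ 0 ≠ 1 := by
    intro z hz hc e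
    obtain ⟨i, hi, ei⟩ := rhoB_spec ⟨z, hz⟩ 0 0 rfl
    rw [e, show ((1 : Fin 3) : ℕ) = 1 from rfl] at hi
    have hm := move_ok (i - 1080) (by omega)
    simp only [List.any_eq_true, List.mem_range, Bool.not_eq_true'] at hm
    obtain ⟨k, hk, hne⟩ := hm
    rw [show 1080 + (i - 1080) = i by omega] at hne
    set a := sevL.getD k 0
    set b := sevL.getD 0 0
    obtain ⟨ha, ha'⟩ := sev_KB hk
    obtain ⟨hb, hb'⟩ := sev_KB (k := 0) (by norm_num)
    have hn : ge a * ge b ∈ NB := by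
      rcases KB_cases ha with p | p
      · have := rhoB_NB (h := ⟨ge a, KB_le ha⟩) p
        exact absurd this (rho_odd (sev_lt hk).1 ha)
      rcases KB_cases hb with q | q
      · have := rhoB_NB (h := ⟨ge b, KB_le hb⟩) q
        exact absurd this (rho_odd (sev_lt (k := 0) (by norm_num)).1 hb)
      have e2 : ge a * ge b = (ge 6 * ge a) * (ge 6 * ge b) := by
        rw [← ha'.eq, mul_assoc, ← mul_assoc (ge 6), ge_sq (by norm_num), one_mul]
      rw [e2]
      exact mul_mem p q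
    have hfix : piA (ge a * ge b) (pt 0) = pt 0 := by
      refine commute_dp.1 ?_
      show Commute _ (d 0)
      rw [d_zero]
      exact ha'.mul_left hb'
    have h1 : piA (ge a * ge b) (pt i) = pt i := by
      rw [← ei, ← Equiv.Perm.mul_apply, ← map_mul, ← (hc _ hn).eq, map_mul, Equiv.Perm.mul_apply, hfix]
    rw [map_mul, Equiv.Perm.mul_apply] at h1
    have h2 : piA (ge a) (pt i) = piA (ge b) (pt i) := by
      conv_lhs => rw [← h1, ← Equiv.Perm.mul_apply, ← map_mul, ge_sq (sev_lt hk).1, map_one, Equiv.Perm.one_apply]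
    have h3 := congrArg Fin.val h2
    rw [ge, ge, homA.apply_ev _ (gw_lt a (sev_lt hk).1), homA.apply_ev _ (gw_lt b (sev_lt (k := 0) (by norm_num)).1),
      pt_val (by omega)] at h3
    rw [h3, Nat.beq_refl] at hne
    exact Bool.noConfusion hne
  have fix0 : ∀ z, ∀ hz : z ∈ HB, (∀ n ∈ NB, Commute z n) → rhoB ⟨z, hz⟩ 0 = 0 := by
    intro z hz hc
    have h1 := no_one z hz hc
    have h6 := ge_HB (show 6 < 10 by norm_num)
    have h2 := no_one _ (mul_mem (mul_mem h6 hz) (inv_mem h6)) (conjC hc 6 (by norm_num))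
    rw [show (⟨_, mul_mem (mul_mem h6 hz) (inv_mem h6)⟩ : ↥HB) =
      ⟨_, h6⟩ * ⟨z, hz⟩ * (⟨_, h6⟩)⁻¹ from rfl, map_mul, map_mul, map_inv, rhoB_six] at h2
    revert h1 h2
    generalize rhoB ⟨z, hz⟩ = σ
    revert σ
    decide
  have h9 := ge_HB (show 9 < 10 by norm_num)
  have e1 := fix0 z hz hc
  have e2 := fix0 _ (mul_mem (mul_mem h9 hz) (inv_mem h9)) (conjC hc 9 (by norm_num))
  rw [show (⟨_, mul_mem (mul_mem h9 hz) (inv_mem h9)⟩ : ↥HB) = ⟨_, h9⟩ * ⟨z, hz⟩ * (⟨_, h9⟩)⁻¹ from rfl,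
    map_mul, map_mul, map_inv, rhoB_nine] at e2
  have : (⟨z, hz⟩ : ↥HB) ∈ rhoB.ker := by
    rw [MonoidHom.mem_ker]
    revert e1 e2
    generalize rhoB ⟨z, hz⟩ = σ
    revert σ
    decide
  rw [rhoB_ker] at this
  exact hZ z this hc
where
  rho_odd {k : ℕ} (hk : k < 11) (hm : ge k ∈ KB) : rhoB ⟨ge k, KB_le hm⟩ ≠ 1 := by
    intro e
    obtain ⟨-, hlt⟩ := gi_lt hk
    rcases Decidable.em (k = 9) with rfl | h9
    · rw [rhoB_nine] at e
      exact absurd e (by decide)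
    obtain ⟨y, hy, hy'⟩ := (d_KB (hlt h9)).2
    have : (⟨ge k, KB_le hm⟩ : ↥HB) = ⟨y, KB_le hy⟩ * ⟨ge 6, ge_HB (by norm_num)⟩ * (⟨y, KB_le hy⟩)⁻¹ :=
      Subtype.ext (((ge_eq hk).trans hy'.symm).trans (by rw [d_zero]; rfl))
    rw [this, map_mul, map_mul, map_inv, mul_inv_eq_one, mul_eq_left, rhoB_six] at e
    exact absurd e (by decide)
  commute_conj_iff (c a b : Spor.Fi23) : Commute (c * a * c⁻¹) (c * b * c⁻¹) ↔ Commute a b :=
    ⟨fun h => by simpa [mul_assoc] using h.conj c⁻¹, fun h => h.conj c⟩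

end Cfsg.Agent.Fus.M23U.Triality
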