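import Cfsg.Agent.Lib.Fus.M23U.Triality.Blocks
import Cfsg.Agent.Lib.Fus.M22U.TypeOf.Table

/-! The first block and the places perpendicular to its first member as projective reflection groups. -/

set_option autoImplicit false
set_option linter.style.haveILetI false
set_option maxRecDepth 100000
set_option maxHeartbeats 2000000

open Cfsg.Agent.Spor.Cos Cfsg.Agent.Spor.Cos.Triple
open Cfsg.Agent.Spor.Cos.Fi23 (g actA piA homA)
open Cfsg.Agent.Fus.M23U.TypeOf (dp dp_equivariant dp_injective)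
open Cfsg.Agent.Fus.M22U.TypeOf (sqForm vecOf Derived exists_code polar_sq nonempty_refl_quot nonempty_quot)

namespace Cfsg.Agent.Fus.M23U.Triality

open Cfsg

theorem blt_true {a b : ℕ} (h : a < b) : Nat.blt a b = true := Nat.ble_eq_true_of_le h

theorem dig_lt (c i : ℕ) : dig c i < 3 := Nat.mod_lt _ (by norm_num)

theorem dig_top {c : ℕ} (hc : c < 2187) : dig c 7 = 0 := by unfold dig; omega

theorem dig_enc {f : ℕ → ℕ} (hf : ∀ i < 8, f i < 3) {i : ℕ} (hi : i < 8) : dig (enc f) i = f i := by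
  have h0 := hf 0 (by norm_num); have h1 := hf 1 (by norm_num); have h2 := hf 2 (by norm_num)
  have h3 := hf 3 (by norm_num); have h4 := hf 4 (by norm_num); have h5 := hf 5 (by norm_num)
  have h6 := hf 6 (by norm_num); have h7 := hf 7 (by norm_num)
  interval_cases i <;> simp only [dig, enc] <;> omega

theorem enc_dig {c : ℕ} (hc : c < 6561) : enc (dig c) = c := by
  simp only [enc, dig]
  omega

theorem dig_negc (c : ℕ) {i : ℕ} (hi : i < 8) : dig (negc c) i = 2 * dig c i % 3 :=
  dig_enc (fun _ _ => Nat.mod_lt _ (by norm_num)) hi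

theorem dig_reflc (u v : ℕ) {i : ℕ} (hi : i < 8) : dig (reflc u v) i = (dig v i + dotc u v * dig u i) % 3 :=
  dig_enc (fun _ _ => Nat.mod_lt _ (by norm_num)) hi

theorem negc_lt (c : ℕ) : negc c < 6561 := by
  simp only [negc, enc]
  omega

theorem vec_apply (n c : ℕ) (i : Fin n) : vecOf n c i = ((dig c i : ℕ) : ZMod 3) := rfl

theorem vec_negc {n : ℕ} (hn : n ≤ 8) (c : ℕ) : vecOf n (negc c) = -vecOf n c := by
  funext i
  rw [Pi.neg_apply, vec_apply, vec_apply, dig_negc c (by omega), ZMod.natCast_mod, Nat.cast_mul]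
  generalize ((dig c i : ℕ) : ZMod 3) = x
  revert x
  decide

theorem code_ext {n c c' : ℕ} (hn : 7 ≤ n) (hc : c < 6561) (hc' : c' < 6561) (h7 : n = 7 → dig c 7 = dig c' 7)
    (h : vecOf n c = vecOf n c') : c = c' := by
  have key : ∀ i, i < 8 → dig c i = dig c' i := by
    intro i hi
    by_cases hin : i < n
    · have := congrArg ZMod.val (congrFun h ⟨i, hin⟩)
      rwa [vec_apply, vec_apply, ZMod.val_natCast_of_lt (dig_lt c i), ZMod.val_natCast_of_lt (dig_lt c' i)] at this
    · obtain rfl : i = 7 := by omega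
      exact h7 (by omega)
  rw [← enc_dig hc, ← enc_dig hc']
  simp only [enc, key 0 (by norm_num), key 1 (by norm_num), key 2 (by norm_num), key 3 (by norm_num),
    key 4 (by norm_num), key 5 (by norm_num), key 6 (by norm_num), key 7 (by norm_num)]

theorem dot8 (u v : ℕ) : ∑ i, vecOf 8 u i * vecOf 8 v i = ((dotc u v : ℕ) : ZMod 3) := by
  simp [Fin.sum_univ_eight, vec_apply, dotc, ZMod.natCast_mod]

theorem dot7 {u v : ℕ} (hu : u < 2187) : ∑ i, vecOf 7 u i * vecOf 7 v i = ((dotc u v : ℕ) : ZMod 3) := by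
  simp [Fin.sum_univ_seven, vec_apply, dotc, ZMod.natCast_mod, dig_top hu]

theorem sq_vec {n c : ℕ} (hn : n = 8 ∨ n = 7 ∧ c < 2187) : sqForm n (vecOf n c) = ((nrm c : ℕ) : ZMod 3) := by
  have e : sqForm n (vecOf n c) = ∑ i, vecOf n c i * vecOf n c i := by
    simp [sqForm, QuadraticMap.weightedSumSquares_apply]
  rw [e]
  rcases hn with rfl | ⟨rfl, hc⟩
  · exact dot8 c c
  · exact dot7 hc

theorem nrm_one {c : ℕ} (h : ((nrm c : ℕ) : ZMod 3) = 1) : nrm c = 1 := by
  have := congrArg ZMod.val h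
  rwa [ZMod.val_natCast_of_lt (show nrm c < 3 from Nat.mod_lt _ (by norm_num)), ZMod.val_one] at this

theorem vec_reflc {n u v : ℕ} (hn : n ≤ 8) :
    vecOf n (reflc u v) = vecOf n v + ((dotc u v : ℕ) : ZMod 3) • vecOf n u := by
  funext i
  rw [Pi.add_apply, Pi.smul_apply, smul_eq_mul, vec_apply, vec_apply, vec_apply, dig_reflc u v (by omega),
    ZMod.natCast_mod, Nat.cast_add, Nat.cast_mul]

theorem refl_vec {n u v : ℕ} (hn : n = 8 ∨ n = 7 ∧ u < 2187) :
    vecOf n v - (1 : ZMod 3)⁻¹ • QuadraticMap.polar (⇑(sqForm n)) (vecOf n u) (vecOf n v) • vecOf n u =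
      vecOf n (reflc u v) := by
  rw [inv_one, one_smul, polar_sq, vec_reflc (by omega)]
  have e : ∑ i, vecOf n u i * vecOf n v i = ((dotc u v : ℕ) : ZMod 3) := by
    rcases hn with rfl | ⟨rfl, hu⟩
    · exact dot8 u v
    · exact dot7 hu
  rw [e]
  funext i
  simp only [Pi.sub_apply, Pi.add_apply, Pi.smul_apply, smul_eq_mul]
  generalize ((dotc u v : ℕ) : ZMod 3) = x
  generalize vecOf n v i = y
  generalize vecOf n u i = z
  revert x y z
  decide

theorem label_spec {j : ℕ} (hj : j < 1080) : code j < 6561 ∧ nrm (code j) = 1 ∧ ixT.at (code j) = j ∧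
    ixT.at (negc (code j)) = j ∧ (0 < j → j < 352 → code j < 2187) := by
  have h := label_ok j hj
  simp only [Bool.and_eq_true, Nat.blt_eq, Bool.or_eq_true, Bool.not_eq_true'] at h
  refine ⟨h.1.1.1.1, Nat.eq_of_beq_eq_true h.1.1.1.2, Nat.eq_of_beq_eq_true h.1.1.2,
    Nat.eq_of_beq_eq_true h.1.2, fun h0 h1 => h.2.resolve_left fun e => ?_⟩
  rw [blt_true h0, blt_true h1] at e
  exact Bool.noConfusion e

theorem label_inj {n j k : ℕ} (hn : n = 8 ∨ n = 7 ∧ (0 < j ∧ j < 352) ∧ 0 < k ∧ k < 352) (hj : j < 1080)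
    (hk : k < 1080) (h : vecOf n (code j) = vecOf n (code k) ∨ vecOf n (code j) = -vecOf n (code k)) : j = k := by
  obtain ⟨cj, -, ij, -, sj⟩ := label_spec hj
  obtain ⟨ck, -, ik, ik', sk⟩ := label_spec hk
  rcases h with h | h
  · have : code j = code k := code_ext (by omega) cj ck (fun e => by
      obtain ⟨-, ⟨a, b⟩, c, d⟩ := hn.resolve_left (by omega)
      rw [dig_top (sj a b), dig_top (sk c d)]) h
    rw [← ij, this, ik]
  · rw [← vec_negc (by omega)] at h
    have : code j = negc (code k) := code_ext (by omega) cj (negc_lt _) (fun e => by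
      obtain ⟨-, ⟨a, b⟩, c, d⟩ := hn.resolve_left (by omega)
      rw [dig_top (sj a b), dig_negc _ (by norm_num), dig_top (sk c d)]) h
    rw [← ij, this, ik']

theorem label_all {n c : ℕ} (hn : n = 8 ∨ n = 7 ∧ c < 2187) (hc : c < 6561)
    (h : sqForm n (vecOf n c) = 1) : ixT.at c < 1080 ∧
      (n = 7 → 0 < ixT.at c ∧ ixT.at c < 352) ∧
      (vecOf n c = vecOf n (code (ixT.at c)) ∨ vecOf n c = -vecOf n (code (ixT.at c))) := by
  rw [sq_vec hn] at h
  have k := all_ok c hc
  rw [show Nat.beq (nrm c) 1 = true by rw [nrm_one h]; rfl] at k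
  simp only [Bool.not_true, Bool.false_or, Bool.and_eq_true, Nat.blt_eq, Bool.or_eq_true, Bool.not_eq_true'] at k
  refine ⟨k.1.1, fun e => ?_, ?_⟩
  · refine k.2.resolve_left fun e' => ?_
    rw [blt_true (hn.resolve_left (by omega)).2] at e'
    exact Bool.noConfusion e'
  · rcases k.1.2 with e | e
    · exact Or.inl (by rw [Nat.eq_of_beq_eq_true e])
    · exact Or.inr (by rw [Nat.eq_of_beq_eq_true e, vec_negc (by omega), neg_neg])

theorem label_refl {n k j : ℕ} (hk : k < 11) (h9 : k ≠ 9) (hj : j < 1080)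
    (hn : n = 8 ∧ k < 10 ∨ n = 7 ∧ 0 < gi k ∧ gi k < 352 ∧ 0 < j ∧ j < 352) :
    vecOf n (code j) - (1 : ZMod 3)⁻¹ •
      QuadraticMap.polar (⇑(sqForm n)) (vecOf n (code (gi k))) (vecOf n (code j)) • vecOf n (code (gi k)) =
        vecOf n (code (img k j)) ∨
    vecOf n (code j) - (1 : ZMod 3)⁻¹ •
      QuadraticMap.polar (⇑(sqForm n)) (vecOf n (code (gi k))) (vecOf n (code j)) • vecOf n (code (gi k)) =
        -vecOf n (code (img k j)) := by
  have hn' : n = 8 ∨ n = 7 ∧ code (gi k) < 2187 := by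
    rcases hn with h | ⟨h, a, b, -⟩
    · exact Or.inl h.1
    · exact Or.inr ⟨h, (label_spec (show gi k < 1080 by omega)).2.2.2.2 a b⟩
  rw [refl_vec hn']
  have h := List.all_eq_true.1 (refl_ok j hj) k (List.mem_range.2 hk)
  simp only [Bool.or_eq_true, Bool.and_eq_true, Bool.not_eq_true'] at h
  rcases h with (e | ⟨e, e'⟩) | (e | e)
  · exact absurd (Nat.eq_of_beq_eq_true e) h9
  · exfalso
    have := Nat.eq_of_beq_eq_true e
    rcases hn with h | ⟨-, -, -, a, b⟩
    · omega
    · rw [blt_true a, blt_true b] at e'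
      exact Bool.noConfusion e'
  · exact Or.inl (by rw [Nat.eq_of_beq_eq_true e])
  · exact Or.inr (by rw [Nat.eq_of_beq_eq_true e, vec_negc (by omega)])

/-- The permutation of the first block by a generator. -/
noncomputable def sigK (k : Fin 9) : Equiv.Perm (Fin 1080) :=
  Equiv.ofBijective
    (fun j => ⟨img k j, by
      obtain ⟨-, -, hb⟩ := img_spec (k := k) (j := j) (by omega) (by omega)
      rw [Nat.div_eq_of_lt j.2, bp, show Nat.beq (k : ℕ) 9 = false from Bool.eq_false_iff.2 fun c => by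
        have := Nat.eq_of_beq_eq_true c; omega] at hb
      simpa [Nat.div_eq_zero_iff] using hb⟩)
    (Finite.injective_iff_bijective.1 fun i j e => by
      have e' : img k i = img k j := congrArg Fin.val e
      have h := (img_spec (k := k) (j := i) (by omega) (by omega)).1
      rw [e', ← (img_spec (k := k) (j := j) (by omega) (by omega)).1] at h
      exact Fin.ext (pt_inj (by omega) (by omega) ((piA (ge k)).injective h)))

theorem sigK_val (k : Fin 9) (j : Fin 1080) : (sigK k j : ℕ) = img k j := rfl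

/-- The generators' places in the first block. -/
noncomputable def baseK (k : Fin 9) : Fin 1080 :=
  ⟨gi k, (gi_lt (k := k) (by omega)).2 (by omega)⟩

theorem derivedK : ∀ x, Derived baseK sigK x := by
  intro x
  have h := tree_spec (fun i => ∃ h : i < 1080, Derived baseK sigK ⟨i, h⟩) ?_ treeK 1 treeK_ok ?_ x
    (by rw [Nat.testBit_two_pow_sub_one, decide_eq_true_eq]; exact x.2)
  · exact h.choose_spec
  · rintro k hk i ⟨hi, hd⟩
    exact ⟨(sigK ⟨k, hk⟩ ⟨i, hi⟩).2, fun S hb hs => hs ⟨k, hk⟩ _ (hd S hb hs)⟩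
  · intro i hi
    rw [Nat.testBit_one_eq_true_iff_self_eq_zero] at hi
    subst hi
    refine ⟨by norm_num, fun S hb _ => ?_⟩
    rw [show (⟨0, by norm_num⟩ : Fin 1080) = baseK 6 from Fin.ext gi_six.1.symm]
    exact hb 6

/-- A place perpendicular to the first member is moved to one by the eight generators. -/
theorem sev_spec {k j : ℕ} (hk : k < 8) (h0 : 0 < j) (hj : j < 352) :
    piA (ge (sevL.getD k 0)) (pt j) = pt (img (sevL.getD k 0) j) ∧
      0 < img (sevL.getD k 0) j ∧ img (sevL.getD k 0) j < 352 := by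
  have h := List.all_eq_true.1 (List.all_eq_true.1 sev_ok (j - 1) (List.mem_range.2 (by omega))) k
    (List.mem_range.2 hk)
  simp only [Bool.and_eq_true, Nat.blt_eq, Nat.sub_add_cancel h0] at h
  obtain ⟨⟨⟨h1, h2⟩, h3⟩, -⟩ := h
  refine ⟨Fin.ext ?_, h2, h3⟩
  rw [ge, homA.apply_ev _ (gw_lt _ (sev_lt hk).1), pt_val (by omega), pt_val (by omega)]
  exact (Nat.eq_of_beq_eq_true h1).symm

theorem sev_d {k j : ℕ} (hk : k < 8) (h0 : 0 < j) (hj : j < 352) :
    ge (sevL.getD k 0) * d j * (ge (sevL.getD k 0))⁻¹ = d (img (sevL.getD k 0) j) := by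
  rw [d, ← dp_equivariant, (sev_spec hk h0 hj).1]
  rfl

/-- The permutation of the perpendicular places. -/
noncomputable def sigS (k : Fin 8) : Equiv.Perm (Fin 351) :=
  Equiv.ofBijective
    (fun j => ⟨img (sevL.getD k 0) (j + 1) - 1, by
      obtain ⟨-, h2, h3⟩ := sev_spec (k := k) (j := j + 1) k.2 (by omega) (by omega)
      omega⟩)
    (Finite.injective_iff_bijective.1 fun i j e => by
      obtain ⟨p, p2, p3⟩ := sev_spec (k := k) (j := i + 1) k.2 (by omega) (by omega)
      obtain ⟨q, q2, q3⟩ := sev_spec (k := k) (j := j + 1) k.2 (by omega) (by omega)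
      have e0 : img (sevL.getD k 0) (i + 1) - 1 = img (sevL.getD k 0) (j + 1) - 1 := congrArg Fin.val e
      rw [show img (sevL.getD k 0) (i + 1) = img (sevL.getD k 0) (j + 1) by omega, ← q] at p
      have := pt_inj (i := i + 1) (j := j + 1) (by omega) (by omega) ((piA _).injective p)
      exact Fin.ext (by omega))

theorem sigS_val (k : Fin 8) (j : Fin 351) : (sigS k j : ℕ) + 1 = img (sevL.getD k 0) (j + 1) := by
  obtain ⟨-, h2, -⟩ := sev_spec (k := k) (j := j + 1) k.2 (by omega) (by omega)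
  show img (sevL.getD k 0) (j + 1) - 1 + 1 = _
  omega

/-- The eight generators' places. -/
noncomputable def baseS (k : Fin 8) : Fin 351 :=
  ⟨gi (sevL.getD k 0) - 1, by have := sev_lt (k := k) k.2; omega⟩

theorem baseS_val (k : Fin 8) : (baseS k : ℕ) + 1 = gi (sevL.getD k 0) := by
  have := sev_lt (k := k) k.2
  show gi (sevL.getD k 0) - 1 + 1 = _
  omega

theorem derivedS : ∀ x, Derived baseS sigS x := by
  intro x
  have hfull : ∀ i < 352, 0 < i → (2 ^ 352 - 2 : ℕ).testBit i = true := by decide +kernel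
  have h := tree_spec
    (fun i => ∃ _ : 0 < i, ∃ h : i < 352, Derived baseS sigS ⟨i - 1, by omega⟩) ?_ treeS
    (2 ^ gi (sevL.getD 0 0)) treeS_ok ?_ (x + 1) (hfull _ (by omega) (by omega))
  · obtain ⟨h0, h1, h⟩ := h
    simpa using h
  · rintro k hk i ⟨h0, h1, hd⟩
    obtain ⟨-, h2, h3⟩ := sev_spec hk h0 h1
    refine ⟨h2, h3, fun S hb hs => ?_⟩
    have := hs ⟨k, hk⟩ _ (hd S hb hs)
    convert this using 1
    refine Fin.ext ?_
    show img (sevL.getD k 0) i - 1 = img (sevL.getD k 0) (i - 1 + 1) - 1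
    rw [Nat.sub_add_cancel h0]
  · intro i hi
    rw [Nat.testBit_two_pow, decide_eq_true_eq] at hi
    subst hi
    obtain ⟨-, g0, g1⟩ := sev_lt (k := 0) (by norm_num)
    exact ⟨g0, g1, fun S hb _ => hb 0⟩

theorem nonempty_KB : Nonempty (↥KB ≃*
    ↥(reflectionSubgroup (⇑(sqForm 8)) 1) ⧸ Subgroup.center ↥(reflectionSubgroup (⇑(sqForm 8)) 1)) := by
  obtain ⟨a⟩ : Nonempty (↥KB ⧸ Subgroup.center ↥KB ≃* Subgroup.closure (Set.range sigK)) := by
    refine nonempty_quot (fun j : Fin 1080 => (⟨d j, (d_KB j.2).1⟩ : ↥KB))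
      (fun i j e => Fin.ext (pt_inj (by omega) (by omega) (dp_injective (congrArg Subtype.val e)))) ?_ baseK sigK
      ?_ derivedK
    · rw [← (Subgroup.map_injective KB.subtype_injective).eq_iff, MonoidHom.map_closure, ← Set.range_comp,
        ← MonoidHom.range_eq_map, Subgroup.range_subtype]
      refine le_antisymm ((Subgroup.closure_le _).2 ?_) ((Subgroup.closure_le _).2 ?_)
      · rintro _ ⟨j, rfl⟩
        exact (d_KB j.2).1
      · rintro _ ⟨k, hk, rfl⟩
        exact Subgroup.subset_closure ⟨baseK ⟨k, hk⟩, (ge_eq (by omega)).symm⟩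
    · intro k j
      refine Subtype.ext ?_
      show d (gi k) * d j * (d (gi k))⁻¹ = d (sigK k j)
      rw [← ge_eq (show (k : ℕ) < 11 by omega), conj_d (by omega) (by omega), sigK_val]
  obtain ⟨b⟩ := nonempty_refl_quot (sqForm 8) (c := 1) one_ne_zero (fun j : Fin 1080 => vecOf 8 (code j))
    (fun j => by rw [sq_vec (Or.inl rfl), (label_spec j.2).2.1, Nat.cast_one])
    (fun i j h => Fin.ext (label_inj (Or.inl rfl) i.2 j.2 h))
    (fun u hu => by
      obtain ⟨c, hc, rfl⟩ := exists_code 8 u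
      obtain ⟨h1, -, h⟩ := label_all (Or.inl rfl) (by omega) hu
      exact ⟨⟨_, h1⟩, h⟩)
    baseK sigK (fun k j => label_refl (k := k) (by omega) (by omega) j.2 (Or.inl ⟨rfl, by omega⟩)) derivedK
  have hz : Subgroup.center ↥KB = ⊥ := by
    refine (Subgroup.eq_bot_iff_forall _).2 fun z hz => Subtype.ext (centralizer_block fun j hj => ?_)
    exact (congrArg Subtype.val (Subgroup.mem_center_iff.1 hz ⟨d j, (d_KB hj).1⟩)).symm
  exact ⟨(((QuotientGroup.quotientMulEquivOfEq hz).trans QuotientGroup.quotientBot).symm).trans (a.trans b.symm)⟩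

/-- The group of the perpendicular places. -/
noncomputable def AB : Subgroup Spor.Fi23 := Subgroup.closure (Set.range fun j : Fin 351 => d (j + 1))

theorem nonempty_AB : Nonempty (↥AB ⧸ Subgroup.center ↥AB ≃*
    ↥(reflectionSubgroup (⇑(sqForm 7)) 1) ⧸ Subgroup.center ↥(reflectionSubgroup (⇑(sqForm 7)) 1)) := by
  obtain ⟨a⟩ : Nonempty (↥AB ⧸ Subgroup.center ↥AB ≃* Subgroup.closure (Set.range sigS)) := by
    refine nonempty_quot (fun j : Fin 351 => (⟨d (j + 1), Subgroup.subset_closure ⟨j, rfl⟩⟩ : ↥AB))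
      (fun i j e => by
        have := pt_inj (i := i + 1) (j := j + 1) (by omega) (by omega) (dp_injective (congrArg Subtype.val e))
        exact Fin.ext (by omega)) ?_ baseS sigS ?_ derivedS
    · rw [← (Subgroup.map_injective AB.subtype_injective).eq_iff, MonoidHom.map_closure, ← Set.range_comp,
        ← MonoidHom.range_eq_map, Subgroup.range_subtype]
      rfl
    · intro k j
      refine Subtype.ext ?_
      show d (baseS k + 1) * d (j + 1) * (d (baseS k + 1))⁻¹ = d (sigS k j + 1)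
      rw [baseS_val, sigS_val, ← ge_eq (sev_lt k.2).1, sev_d k.2 (by omega) (by omega)]
  obtain ⟨b⟩ := nonempty_refl_quot (sqForm 7) (c := 1) one_ne_zero (fun j : Fin 351 => vecOf 7 (code (j + 1)))
    (fun j => by
      obtain ⟨-, h, -, -, h'⟩ := label_spec (j := j + 1) (by omega)
      rw [sq_vec (Or.inr ⟨rfl, h' (by omega) (by omega)⟩), h, Nat.cast_one])
    (fun i j h => by
      have := label_inj (n := 7) (j := i + 1) (k := j + 1)
        (Or.inr ⟨rfl, ⟨by omega, by omega⟩, by omega, by omega⟩) (by omega) (by omega) h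
      exact Fin.ext (by omega))
    (fun u hu => by
      obtain ⟨c, hc, rfl⟩ := exists_code 7 u
      obtain ⟨-, h7, h⟩ := label_all (Or.inr ⟨rfl, by omega⟩) (by omega) hu
      obtain ⟨h0, h1⟩ := h7 rfl
      refine ⟨⟨ixT.at c - 1, by omega⟩, ?_⟩
      show vecOf 7 c = vecOf 7 (code (ixT.at c - 1 + 1)) ∨ vecOf 7 c = -vecOf 7 (code (ixT.at c - 1 + 1))
      rw [Nat.sub_add_cancel h0]
      exact h)
    baseS sigS (fun k j => by
      obtain ⟨hs, g0, g1⟩ := sev_lt (k := k) k.2
      show _ = vecOf 7 (code (sigS k j + 1)) ∨ _ = -vecOf 7 (code (sigS k j + 1))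
      rw [sigS_val, show vecOf 7 (code (baseS k + 1)) = vecOf 7 (code (gi (sevL.getD k 0))) by rw [baseS_val]]
      refine label_refl hs (fun e => ?_) (by omega) (Or.inr ⟨rfl, g0, g1, by omega, by omega⟩)
      rw [e, gi_six.2] at g1
      omega)
    derivedS
  exact ⟨a.trans b.symm⟩

end Cfsg.Agent.Fus.M23U.Triality
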